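import Groth.Agent.SGA7.K566.Cochar
import Groth.Agent.AbVar.K530.TorPts
import Groth.Agent.AbVar.K523.KerSq
import Groth.Agent.TateLoc.K809.NeutralN
import Groth.Agent.AbVar.K510.TateMod
import Groth.Agent.Sga7.H620.TorsCount
import Groth.Agent.Sga7.H620.Rosenlicht
import Groth.Agent.AbSch.K452.TorusRig
import Groth.Agent.Sga3.H795.MaxTorDim
import Groth.Agent.VarietyB.DimSch
import Groth.Agent.PicF.K247.SmoothGI

/-!
# The number of torsion points of a semiabelian variety over an algebraically closed field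

`exists_struct`: `G` smooth connected commutative without closed `𝔾_a` over an algebraically closed field: there are
`a, r` and a closed split torus `i : 𝔾_m^r → G` containing every torus of `G`, with `dim G = a + r` and
`#G[l] = l ^ (2 a + r)`.
-/

set_option autoImplicit false
universe u
open CategoryTheory MonoidalCategory CartesianMonoidalCategory MonObj GrpObj AlgebraicGeometry Limits

namespace K125.Rk

open Groth.Agent Sga7.H109.Basic Sga7.H109.Struct

section card

variable {K : Type u} [Field K]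

/-- Counting torsion points in an extension. -/
theorem card_of_kernel {T G Q : Over (Spec (CommRingCat.of K))} [GrpObj T] [GrpObj G] [GrpObj Q] [IsCommMonObj G]
    (i : T ⟶ G) [IsMonHom i] [Mono i] (q : G ⟶ Q) [IsMonHom q] (hker : AlgGrp.IsKernel i q) (l : ℕ)
    (hdiv : ∀ x : 𝟙_ (Over (Spec (CommRingCat.of K))) ⟶ T, ∃ y : 𝟙_ (Over (Spec (CommRingCat.of K))) ⟶ T, y ^ l = x)
    (hsurj : ∀ y : 𝟙_ (Over (Spec (CommRingCat.of K))) ⟶ Q, ∃ x : 𝟙_ (Over (Spec (CommRingCat.of K))) ⟶ G, x ≫ q = y) :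
    Nat.card {x : 𝟙_ (Over (Spec (CommRingCat.of K))) ⟶ G // x ^ l = 1} =
      Nat.card {x : 𝟙_ (Over (Spec (CommRingCat.of K))) ⟶ T // x ^ l = 1} *
        Nat.card {x : 𝟙_ (Over (Spec (CommRingCat.of K))) ⟶ Q // x ^ l = 1} := by
  let F := Sga7.H620.TorsCount.ptsMap (T := 𝟙_ (Over (Spec (CommRingCat.of K)))) i
  let P := Sga7.H620.TorsCount.ptsMap (T := 𝟙_ (Over (Spec (CommRingCat.of K)))) q
  have hF : Function.Injective F := fun x y h => (cancel_mono i).1 h
  have hFP : ∀ x, P (F x) = 1 := by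
    intro x
    change (x ≫ i) ≫ q = 1
    rw [Category.assoc, hker.w, ← Category.assoc, Hom.one_def]
    congr 1
    exact toUnit_unique _ _
  have hP : ∀ x, P x = 1 → ∃ z, F z = x := fun x hx => K523.KerSq.exists_lift_ker hker x hx
  have hs : ∀ y : {x : 𝟙_ (Over (Spec (CommRingCat.of K))) ⟶ Q // x ^ l = 1}, ∃ g : 𝟙_ (Over (Spec (CommRingCat.of K))) ⟶ G,
      g ^ l = 1 ∧ P g = y.1 := by
    rintro ⟨y, hy⟩
    obtain ⟨g, hg⟩ := hsurj y
    obtain ⟨x, hx⟩ := hP (g ^ l) (by rw [map_pow]; change (g ≫ q) ^ l = 1; rw [hg, hy])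
    obtain ⟨x', rfl⟩ := hdiv x
    refine ⟨g * (F x')⁻¹, ?_, ?_⟩
    · rw [_root_.mul_pow, inv_pow, ← map_pow, hx, mul_inv_cancel]
    · rw [map_mul, map_inv, hFP, _root_.inv_one, _root_.mul_one]
      exact hg
  choose s hs1 hs2 using hs
  let Φ : {x : 𝟙_ (Over (Spec (CommRingCat.of K))) ⟶ T // x ^ l = 1} ×
      {x : 𝟙_ (Over (Spec (CommRingCat.of K))) ⟶ Q // x ^ l = 1} →
      {x : 𝟙_ (Over (Spec (CommRingCat.of K))) ⟶ G // x ^ l = 1} :=
    fun p => ⟨F p.1.1 * s p.2, by
      rw [_root_.mul_pow, hs1, ← map_pow, p.1.2, map_one, _root_.mul_one]⟩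
  have hΦ : Function.Bijective Φ := by
    constructor
    · rintro ⟨⟨t, ht⟩, y⟩ ⟨⟨t', ht'⟩, y'⟩ h
      have h1 : F t * s y = F t' * s y' := congrArg Subtype.val h
      have h2 : y = y' := by
        have h3 := congrArg P h1
        rw [map_mul, map_mul, hFP, hFP, _root_.one_mul, _root_.one_mul, hs2, hs2] at h3
        exact Subtype.ext h3
      subst h2
      have h4 := hF (mul_right_cancel h1)
      subst h4
      rfl
    · rintro ⟨g, hg⟩
      let y : {x : 𝟙_ (Over (Spec (CommRingCat.of K))) ⟶ Q // x ^ l = 1} := ⟨P g, by rw [← map_pow, hg, map_one]⟩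
      obtain ⟨t, ht⟩ := hP (g * (s y)⁻¹) (by rw [map_mul, map_inv, hs2, mul_inv_cancel])
      have htl : t ^ l = 1 := by
        apply hF
        rw [map_pow, ht, _root_.mul_pow, inv_pow, hs1, hg, _root_.inv_one, _root_.mul_one, map_one]
      refine ⟨⟨⟨t, htl⟩, y⟩, Subtype.ext ?_⟩
      change F t * s y = g
      rw [ht, inv_mul_cancel_right]
  rw [← Nat.card_eq_of_bijective Φ hΦ, Nat.card_prod]

end card

variable {K : Type u} [Field K] [IsAlgClosed K]

theorem exists_struct (G : Over (Spec (CommRingCat.of K))) [GrpObj G] [IsCommMonObj G] [Smooth G.hom]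
    [QuasiCompact G.hom] [ConnectedSpace G.left] (h : NoGa G) :
    ∃ (r a : ℕ) (i : Red.DS (Spec (CommRingCat.of K)) (Fin r → ℤ) ⟶ G), IsMonHom i ∧ IsClosedImmersion i.left ∧
      topologicalKrullDim G.left = ((a + r : ℕ) : WithBot ℕ∞) ∧
      (∀ l : ℕ, (l : K) ≠ 0 →
        Nat.card {x : 𝟙_ (Over (Spec (CommRingCat.of K))) ⟶ G // x ^ l = 1} = l ^ (2 * a + r)) ∧
      (∀ (T : Over (Spec (CommRingCat.of K))) [GrpObj T] (j : T ⟶ G) [IsMonHom j], Red.IsTorus T →
        ∃ f : T ⟶ Red.DS (Spec (CommRingCat.of K)) (Fin r → ℤ), f ≫ i = j) := by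
  obtain ⟨r, i, Q, _, q, hi, hic, hq, hqs, hqf, hker, hQp, hQs, hQc⟩ := exists_semiabelian G h
  have himl : Mono i.left := inferInstance
  have him : Mono i := Over.mono_of_mono_left i
  have hT : Red.IsTorus (Red.DS (Spec (CommRingCat.of K)) (Fin r → ℤ)) := K452.TorusRig.isTorus_DS _ r
  have hQi : GeometricallyIntegral Q.hom := Sga7.H620.TorsCount.geometricallyIntegral_of_smooth_connected Q
  have hTft : LocallyOfFiniteType (Red.DS (Spec (CommRingCat.of K)) (Fin r → ℤ)).hom := by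
    rw [← Over.w i]; infer_instance
  have hd1 := Sga7.H620.TorsCount.dim_add i q hker
  have hdT := Sga3.H816.TorusDim.topologicalKrullDim_DS K r
  have hQint : IsIntegral Q.left := K247.SmoothGI.isIntegral_of_smooth Q.hom
  obtain ⟨a, ha⟩ : ∃ a : ℕ, topologicalKrullDim Q.left = a := by
    let _ : Q.left.Over (Spec (CommRingCat.of K)) := ⟨Q.hom⟩
    have : LocallyOfFiniteType (Q.left ↘ Spec (CommRingCat.of K)) := inferInstanceAs (LocallyOfFiniteType Q.hom)
    exact ⟨_, Groth.Agent.VarietyB.DimSch.topologicalKrullDim_eq_trd K⟩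
  refine ⟨r, a, i, hi, hic, ?_, fun l hl => ?_, fun T _ j _ hTt => ?_⟩
  · rw [hd1, ha, hdT]
    push_cast
    rfl
  · have hl0 : 0 < l := Nat.pos_of_ne_zero (by rintro rfl; exact hl Nat.cast_zero)
    rw [card_of_kernel i q hker l (fun x => K530.TorPts.exists_pow_eq hT l hl0 x) (fun y => ?_),
      K530.TorPts.card_torsion hT l hl r hdT, pow_add, _root_.mul_comm]
    · congr 1
      exact Etcore.AbTors.card_torsion Q a ha l hl
    · obtain ⟨x, hx⟩ := Sga7.H620.Rosenlicht.exists_lift_pt q y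
      exact ⟨x, hx⟩
  · have h1 : j ≫ q = 1 := K452.TorusRig.hom_eq_one_algClosed hTt (j ≫ q)
    exact K523.KerSq.exists_lift_ker hker j h1

end K125.Rk
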