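import Groth.Agent.Neron.K125.Tate

/-!
# The Galois action on the Tate module of `Ω`-points of an `R`-group

`gal N l f σ` is the action of `σ ∈ Aut_K(Ω)` on `T_l N(Ω)` (points over `R → K → Ω`); `tA` compares it with the Tate
module of `A ≅ N ×_R K` of the rows.
-/

set_option autoImplicit false
universe u

open CategoryTheory CategoryTheory.Limits AlgebraicGeometry MonObj
open MonoidalCategory CartesianMonoidalCategory
open AbDual

noncomputable section

namespace K125.Gal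

open K125.Pts K125.Tors K125.Tate

section

variable {R K Ω : Type u} [CommRing R] [Field K] [Field Ω] [Algebra K Ω] (f : R →+* K)
  (N : Over (Spec (CommRingCat.of R))) [GrpObj N] [IsCommMonObj N] (l : ℕ) [Fact l.Prime]

/-- the structure map of `Ω` over `R`. -/
abbrev str (Ω : Type u) [Field Ω] [Algebra K Ω] : R →+* Ω := (algebraMap K Ω).comp f

/-- the action of the Galois group on the Tate module -/
def gal (σ : Ω ≃ₐ[K] Ω) : TateMod N l (pt (str f Ω)) →ₗ[ℤ_[l]] TateMod N l (pt (str f Ω)) :=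
  tH N l (σ : Ω →+* Ω) (gal_comp σ f)

lemma co_gal (σ : Ω ≃ₐ[K] Ω) (z : TateMod N l (pt (str f Ω))) (k : ℕ) :
    co (gal f N l σ z) k = pmH N (σ : Ω →+* Ω) (gal_comp σ f) (co z k) := rfl

lemma gal_mul (σ τ : Ω ≃ₐ[K] Ω) (z : TateMod N l (pt (str f Ω))) :
    gal f N l (σ * τ) z = gal f N l σ (gal f N l τ z) := by
  unfold gal
  rw [tH_tH N l (σ : Ω →+* Ω) (τ : Ω →+* Ω) (gal_comp τ f) (gal_comp σ f) (by
    rw [RingHom.comp_assoc, gal_comp, gal_comp])]
  exact tH_congr N l (by ext; rfl) _ _ z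

lemma gal_one (z : TateMod N l (pt (str f Ω))) : gal f N l (1 : Ω ≃ₐ[K] Ω) z = z := by
  unfold gal
  rw [tH_congr N l (φ' := RingHom.id Ω) (by ext; rfl) _ (by rw [RingHom.id_comp])]
  exact tH_id N l _ z

/-- level two -/
def LT (Ω : Type u) [Field Ω] [Algebra K Ω] : Prop :=
  ∀ (σ τ : Ω ≃ₐ[K] Ω) (z : TateMod N l (pt (str f Ω))), gal f N l σ (gal f N l τ z - z) = gal f N l τ z - z

variable {f N l}

theorem LT.gal_pow (h : LT f N l Ω) (σ : Ω ≃ₐ[K] Ω) (z : TateMod N l (pt (str f Ω))) (n : ℕ) :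
    gal f N l (σ ^ n) z = z + n • (gal f N l σ z - z) := by
  induction n with
  | zero => rw [pow_zero, gal_one, zero_smul, add_zero]
  | succ n ih =>
    rw [pow_succ', gal_mul, ih, map_add, map_nsmul, h, succ_nsmul]
    abel

theorem nsmul_eq_zero {S : Scheme.{u}} {A : Over S} [GrpObj A] [IsCommMonObj A] {T : Over S}
    {n : ℕ} (hn : 0 < n) (x : TateMod A l T) (h : n • x = 0) : x = 0 := by
  have h1 : ((n : ℤ_[l])) • x = 0 := by rw [K510.TateMod.natCast_smul]; exact h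
  have hn0 : (n : ℤ_[l]) ≠ 0 := by exact_mod_cast hn.ne'
  exact (smul_eq_zero.mp h1).resolve_left hn0

theorem LT.eq_of_pow (h : LT f N l Ω) (σ : Ω ≃ₐ[K] Ω) (z : TateMod N l (pt (str f Ω))) {n : ℕ} (hn : 0 < n)
    (hz : gal f N l (σ ^ n) z = z) : gal f N l σ z = z := by
  rw [h.gal_pow, add_eq_left] at hz
  exact sub_eq_zero.mp (nsmul_eq_zero hn _ hz)

end

section comparison

/-- Postcomposition with an isomorphism of group objects. -/
def postE {C : Type*} [Category C] [CartesianMonoidalCategory C] {G H : C} [GrpObj G] [GrpObj H] (i : G ≅ H)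
    (hi : IsMonHom i.hom) (T : C) : (T ⟶ H) ≃* (T ⟶ G) where
  toFun x := x ≫ i.inv
  invFun x := x ≫ i.hom
  left_inv x := by simp
  right_inv x := by simp
  map_mul' x y := MonObj.mul_comp x y i.inv

lemma postE_apply {C : Type*} [Category C] [CartesianMonoidalCategory C] {G H : C} [GrpObj G] [GrpObj H] (i : G ≅ H)
    (hi : IsMonHom i.hom) (T : C) (x : T ⟶ H) : postE i hi T x = x ≫ i.inv := rfl

variable {R K Ω : Type u} [CommRing R] [Field K] [Field Ω] [Algebra K Ω] (f : R →+* K)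
  (N : Over (Spec (CommRingCat.of R))) [GrpObj N] [IsCommMonObj N] (l : ℕ) [Fact l.Prime]
  {A : Over (Spec (CommRingCat.of K))} [GrpObj A] [IsCommMonObj A]
  (e : Red.bc (Spec.map (CommRingCat.ofHom f)) N ≅ A) (he : IsMonHom e.hom)

/-- `T_l A(Ω) ≅ T_l N(Ω)`. -/
def tA : TateMod A l (SGA7.pt Ω) ≃ₗ[ℤ_[l]] TateMod N l (pt (str f Ω)) :=
  (K521.BcTate.tateCongr l (postE e he (SGA7.pt Ω))).trans (tBc N l f (algebraMap K Ω))

lemma co_tA (z : TateMod A l (SGA7.pt Ω)) (k : ℕ) :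
    co (tA f N l e he z) k = bcE N f (algebraMap K Ω) (co z k ≫ e.inv) := rfl

/-- Compatibility with the Galois action of the rows. -/
theorem tA_galAct (τ : Ω ≃ₐ[K] Ω) (z w : TateMod A l (SGA7.pt Ω))
    (h : ∀ k, co w k = SGA7.galAct τ (co z k)) : tA f N l e he w = gal f N l τ (tA f N l e he z) := by
  refine co_ext fun k => ?_
  rw [co_gal, co_tA, co_tA, h, galAct_eq, ← bcE_pmH N f _ (by ext; simp)]
  congr 1

theorem tA_rho (ρ : (Ω ≃ₐ[K] Ω) → TateMod A l (SGA7.pt Ω) → TateMod A l (SGA7.pt Ω))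
    (hρ : ∀ (τ : Ω ≃ₐ[K] Ω) (z : TateMod A l (SGA7.pt Ω)) (k : ℕ),
      (TateMod.component A l (SGA7.pt Ω) k (ρ τ z)).toMul =
        SGA7.galAct τ (TateMod.component A l (SGA7.pt Ω) k z).toMul) (τ : Ω ≃ₐ[K] Ω)
    (z : TateMod A l (SGA7.pt Ω)) : tA f N l e he (ρ τ z) = gal f N l τ (tA f N l e he z) :=
  tA_galAct f N l e he τ z _ (hρ τ z)

/-- Level two from the statement on torsion points. -/
theorem LT_of_dev (h : ∀ (ν : ℕ) (σ τ : Ω ≃ₐ[K] Ω) (x : SGA7.Pts Ω (Red.bc (Spec.map (CommRingCat.ofHom f)) N)),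
    x ^ (l ^ ν) = 1 → SGA7.dev σ (SGA7.dev τ x) = 1) : LT f N l Ω := by
  intro σ τ z
  refine co_ext fun k => ?_
  rw [co_gal, co_sub, co_gal]
  have h1 := h k σ τ ((bcE N f (algebraMap K Ω)).symm (co z k)) (by rw [← map_pow, co_pow, map_one])
  have h2 := mul_inv_eq_one.mp h1
  have h3 : bcE N f (algebraMap K Ω) (SGA7.dev τ ((bcE N f (algebraMap K Ω)).symm (co z k))) =
      pmH N (τ : Ω →+* Ω) (gal_comp τ f) (co z k) * (co z k)⁻¹ := by
    unfold SGA7.dev
    rw [map_mul, map_inv, MulEquiv.apply_symm_apply, galAct_eq,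
      bcE_pmH N f _ (by ext; simp) (gal_comp τ f), MulEquiv.apply_symm_apply]
  rw [← h3, ← bcE_pmH N f _ (by ext; simp) (gal_comp σ f)]
  exact congrArg (bcE N f (algebraMap K Ω)) h2

end comparison

end K125.Gal
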