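import Mathlib.FieldTheory.IsSepClosed
import Mathlib.FieldTheory.Normal.Basic
import Mathlib.FieldTheory.AlgebraicClosure
import Mathlib.Algebra.MvPolynomial.Basic
import Mathlib.GroupTheory.Perm.Finite
import Mathlib.RingTheory.Localization.FractionRing
import Mathlib.GroupTheory.OrderOfElement

/-!
# Restricting and extending automorphisms of separable closures

* `exists_restrict`: automorphisms of `Ω'/L` restrict to `Ω/K`;
* `exists_ext`: if `L = Frac B`, `B` generated over `R` by radicals of elements of `K`, then for `σ ∈ Gal(Ω/K)` some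
  power `σ ^ M`, `M > 0`, extends to an element of `Gal(Ω'/L)`.
-/

set_option autoImplicit false
universe u

namespace K125.GalExt

theorem exists_restrict {K Ω L Ω' : Type*} [Field K] [Field Ω] [Field L] [Field Ω'] [Algebra K Ω] [Algebra K L]
    [Algebra L Ω'] [Algebra K Ω'] [IsScalarTower K L Ω'] [Normal K Ω] (φ : Ω →ₐ[K] Ω') (σ' : Ω' ≃ₐ[L] Ω') :
    ∃ τ : Ω ≃ₐ[K] Ω, ∀ y, φ (τ y) = σ' (φ y) := by
  let : Algebra Ω Ω' := φ.toRingHom.toAlgebra
  have : IsScalarTower K Ω Ω' := IsScalarTower.of_algebraMap_eq fun x => (φ.commutes x).symm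
  exact ⟨(σ'.restrictScalars K).restrictNormal Ω, fun y => AlgEquiv.restrictNormal_commutes _ Ω y⟩

/-- A permutation has finite order on a finite stable set. -/
theorem exists_pow_fix {α : Type*} (g : Equiv.Perm α) (S : Set α) (hS : S.Finite) (h : ∀ x, g x ∈ S ↔ x ∈ S) :
    ∃ M : ℕ, 0 < M ∧ ∀ x ∈ S, (g ^ M) x = x := by
  have : Finite S := hS
  let g' : Equiv.Perm {x // x ∈ S} := g.subtypePerm h
  refine ⟨orderOf g', orderOf_pos g', fun x hx => ?_⟩
  have h1 : (g' ^ orderOf g') ⟨x, hx⟩ = ⟨x, hx⟩ := by rw [pow_orderOf_eq_one]; rfl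
  rw [Equiv.Perm.subtypePerm_pow] at h1
  exact congrArg Subtype.val h1

theorem finite_roots {E : Type*} [Field E] {n : ℕ} (a : Fin n → E) (m : Fin n → ℕ) (hm : ∀ i, 0 < m i) :
    {y : E | ∃ i, y ^ m i = a i}.Finite := by
  have h1 : {y : E | ∃ i, y ^ m i = a i} = ⋃ i, {y : E | y ^ m i = a i} := by ext; simp
  rw [h1]
  classical
  refine Set.finite_iUnion fun i => ?_
  have h2 : (Polynomial.X ^ m i - Polynomial.C (a i) : Polynomial E) ≠ 0 :=
    Polynomial.X_pow_sub_C_ne_zero (hm i) _
  refine ((Polynomial.X ^ m i - Polynomial.C (a i) : Polynomial E).roots.toFinset.finite_toSet).subset ?_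
  intro y hy
  have hy' : y ^ m i = a i := hy
  simp [Polynomial.mem_roots h2, hy']

theorem exists_ext {R K Ω B L Ω' : Type u} [CommRing R] [Field K] [Algebra R K] [Field Ω] [Algebra K Ω]
    [CommRing B] [IsDomain B] [Algebra R B] [Field L] [Algebra B L] [IsFractionRing B L] [Field Ω']
    [Algebra L Ω'] [Normal L Ω'] [Algebra K L] [Algebra K Ω'] [IsScalarTower K L Ω'] [Algebra.IsAlgebraic K L]
    (hKL : ∀ x : R, algebraMap K L (algebraMap R K x) = algebraMap B L (algebraMap R B x))
    {n : ℕ} (τ : Fin n → B)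
    (hτ : Function.Surjective (MvPolynomial.aeval τ : MvPolynomial (Fin n) R →ₐ[R] B))
    (m : Fin n → ℕ) (hm : ∀ i, 0 < m i) (r : Fin n → R) (hr : ∀ i, τ i ^ m i = algebraMap R B (r i))
    (φ : Ω →ₐ[K] Ω') (σ : Ω ≃ₐ[K] Ω) :
    ∃ (M : ℕ) (σ' : Ω' ≃ₐ[L] Ω'), 0 < M ∧ ∀ y, φ ((σ ^ M) y) = σ' (φ y) := by
  let E := AlgebraicClosure Ω'
  let iΩ : Algebra Ω E := ((algebraMap Ω' E).comp φ.toRingHom).toAlgebra
  have t1 : IsScalarTower K Ω E := IsScalarTower.of_algebraMap_eq fun x => by
    change algebraMap K E x = algebraMap Ω' E (φ (algebraMap K Ω x))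
    rw [φ.commutes]
    exact IsScalarTower.algebraMap_apply K Ω' E x
  have : Algebra.IsAlgebraic K Ω' := Algebra.IsAlgebraic.trans K L Ω'
  have : Algebra.IsAlgebraic K E := Algebra.IsAlgebraic.trans K Ω' E
  have : Normal K E := normal_iff.mpr fun x => ⟨Algebra.IsIntegral.isIntegral x, IsAlgClosed.splits _⟩
  let σE : E ≃ₐ[K] E := σ.liftNormal E
  have hσE : ∀ y : Ω, σE (algebraMap Ω E y) = algebraMap Ω E (σ y) := fun y => AlgEquiv.liftNormal_commutes σ E y
  let a : Fin n → E := fun i => algebraMap K E (algebraMap R K (r i))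
  obtain ⟨M, hM, hfix⟩ := exists_pow_fix (σE.toEquiv : Equiv.Perm E) {y : E | ∃ i, y ^ m i = a i}
    (finite_roots a m hm) (fun x => by
      have h1 : ∀ i, σE (a i) = a i := fun i => σE.commutes _
      constructor
      · rintro ⟨i, hi⟩
        refine ⟨i, σE.injective ?_⟩
        rw [map_pow, h1]
        exact hi
      · rintro ⟨i, hi⟩
        refine ⟨i, ?_⟩
        change (σE x) ^ m i = a i
        rw [← map_pow, hi, h1])
  have hpow : ∀ (k : ℕ) (x : E), ((σE.toEquiv : Equiv.Perm E) ^ k) x = (σE ^ k) x := by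
    intro k
    induction k with
    | zero => intro x; rfl
    | succ k ih =>
      intro x
      rw [pow_succ, pow_succ, Equiv.Perm.mul_apply, ih]
      rfl
  have hpow' : ∀ (k : ℕ) (y : Ω), (σE ^ k) (algebraMap Ω E y) = algebraMap Ω E ((σ ^ k) y) := by
    intro k
    induction k with
    | zero => intro y; rfl
    | succ k ih =>
      intro y
      rw [pow_succ, pow_succ]
      change (σE ^ k) (σE (algebraMap Ω E y)) = algebraMap Ω E ((σ ^ k) (σ y))
      rw [hσE, ih]
  -- `σE ^ M` fixes `L`
  have hL : ∀ x : L, (σE ^ M) (algebraMap L E x) = algebraMap L E x := by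
    let g1 : L →+* E := ((σE ^ M : E ≃ₐ[K] E) : E →+* E).comp (algebraMap L E)
    have h1 : g1 = algebraMap L E := by
      refine IsLocalization.ringHom_ext (nonZeroDivisors B) ?_
      let h2 : MvPolynomial (Fin n) R →+* B := (MvPolynomial.aeval τ : MvPolynomial (Fin n) R →ₐ[R] B).toRingHom
      have h3 : (g1.comp (algebraMap B L)).comp h2 = ((algebraMap L E).comp (algebraMap B L)).comp h2 := by
        refine MvPolynomial.ringHom_ext (fun x => ?_) (fun i => ?_)
        · have h4 : h2 (MvPolynomial.C x) = algebraMap R B x := by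
            change MvPolynomial.aeval τ (MvPolynomial.C x) = _
            rw [MvPolynomial.aeval_C]
          change (σE ^ M) (algebraMap L E (algebraMap B L (h2 (MvPolynomial.C x)))) =
            algebraMap L E (algebraMap B L (h2 (MvPolynomial.C x)))
          rw [h4, ← hKL]
          have h5 : ∀ y : K, algebraMap L E (algebraMap K L y) = algebraMap K E y := fun y => by
            change algebraMap Ω' E (algebraMap L Ω' (algebraMap K L y)) = algebraMap Ω' E (algebraMap K Ω' y)
            rw [← IsScalarTower.algebraMap_apply K L Ω']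
          rw [h5]
          exact (σE ^ M).commutes _
        · have h4 : h2 (MvPolynomial.X i) = τ i := by
            change MvPolynomial.aeval τ (MvPolynomial.X i) = _
            rw [MvPolynomial.aeval_X]
          change (σE ^ M) (algebraMap L E (algebraMap B L (h2 (MvPolynomial.X i)))) =
            algebraMap L E (algebraMap B L (h2 (MvPolynomial.X i)))
          rw [h4, ← hpow]
          refine hfix _ ⟨i, ?_⟩
          rw [← map_pow, ← map_pow, hr, ← hKL]
          change algebraMap Ω' E (algebraMap L Ω' (algebraMap K L _)) = algebraMap Ω' E (algebraMap K Ω' _)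
          rw [← IsScalarTower.algebraMap_apply K L Ω']
      ext b
      obtain ⟨p, rfl⟩ := hτ b
      exact RingHom.congr_fun h3 p
    exact fun x => RingHom.congr_fun h1 x
  let σL : E ≃ₐ[L] E := AlgEquiv.ofRingEquiv (f := ((σE ^ M : E ≃ₐ[K] E) : E ≃+* E)) hL
  refine ⟨M, σL.restrictNormal Ω', hM, fun y => (algebraMap Ω' E).injective ?_⟩
  rw [AlgEquiv.restrictNormal_commutes]
  exact (hpow' M y).symm

end K125.GalExt
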