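import Groth.Agent.Neron.K125.Gal
import Groth.Agent.Neron.K125.GalExt
import Groth.Agent.Pi1.H394.Mu
import Groth.Agent.Etrest.SHPoint
import Mathlib.FieldTheory.SeparableDegree

/-!
# Fixed elements of the Tate module under Kummer base change
-/

set_option autoImplicit false
universe u

open CategoryTheory CategoryTheory.Limits AlgebraicGeometry MonObj
open MonoidalCategory CartesianMonoidalCategory
open AbDual

noncomputable section

namespace K125.KumBC

open K125.Pts K125.Tors K125.Tate K125.Gal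

theorem isStrictlyHenselian_of_isSepClosed (Ω : Type u) [Field Ω] [IsSepClosed Ω] :
    EtCoh.IsStrictlyHenselianLocalRing Ω :=
  ⟨inferInstance, Groth.Agent.Etrest.SHPoint.isSepClosed_residueField Ω⟩

section roots

/-- In a separably closed field all `n`-th roots exist, `n` invertible. -/
theorem exists_root {Ω : Type*} [Field Ω] [IsSepClosed Ω] {n : ℕ} (hn : (n : Ω) ≠ 0) (a : Ω) :
    ∃ y : Ω, y ^ n = a := by
  have : NeZero (n : Ω) := ⟨hn⟩
  exact IsSepClosed.exists_pow_nat_eq a n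

/-- Roots in an extension of a separably closed field of elements of the field lie in the field. -/
theorem exists_root_of_root {Ω Ω' : Type*} [Field Ω] [IsSepClosed Ω] [Field Ω'] (φ : Ω →+* Ω') {n : ℕ}
    (hn : (n : Ω) ≠ 0) (a : Ω) (y' : Ω') (hy : y' ^ n = φ a) : ∃ y : Ω, y ^ n = a ∧ φ y = y' := by
  have hn0 : n ≠ 0 := by rintro rfl; simp at hn
  by_cases ha : a = 0
  · subst ha
    refine ⟨0, zero_pow hn0, ?_⟩
    rw [map_zero] at hy ⊢
    exact (pow_eq_zero_iff hn0).mp hy |>.symm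
  · obtain ⟨y, hy1⟩ := exists_root hn a
    have hy0 : y ≠ 0 := by rintro rfl; rw [zero_pow hn0] at hy1; exact ha hy1.symm
    have h1 : (y' / φ y) ^ n = 1 := by
      rw [div_pow, hy, ← map_pow, hy1, div_self]
      exact (map_ne_zero φ).mpr ha
    have : NeZero (n : Ω) := ⟨hn⟩
    have hn1 : NeZero n := ⟨hn0⟩
    obtain ⟨ζ, hζ⟩ := (inferInstance : HasEnoughRootsOfUnity Ω n).prim
    have h2 : IsPrimitiveRoot (φ ζ) n := hζ.map_of_injective φ.injective
    obtain ⟨i, -, hi⟩ := h2.eq_pow_of_pow_eq_one h1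
    refine ⟨ζ ^ i * y, by rw [mul_pow, hy1, ← pow_mul, mul_comm i n, pow_mul, hζ.pow_eq_one, one_pow,
      _root_.one_mul], ?_⟩
    rw [map_mul, map_pow, hi, div_mul_cancel₀]
    exact (map_ne_zero φ).mpr hy0

end roots

section main

variable {R K Ω B L Ω' : Type u} [CommRing R] [HenselianLocalRing R] [IsSepClosed (IsLocalRing.ResidueField R)]
  [Field K] [Algebra R K] [Field Ω] [Algebra K Ω] [IsSepClosure K Ω]
  [CommRing B] [IsDomain B] [Algebra R B] [Field L] [Algebra B L] [IsFractionRing B L] [Field Ω']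
  [Algebra L Ω'] [IsSepClosure L Ω'] [Algebra K L] [Algebra K Ω'] [IsScalarTower K L Ω'] [Algebra.IsAlgebraic K L]
  (𝒜 : Over (Spec (CommRingCat.of R))) [GrpObj 𝒜] [IsCommMonObj 𝒜] [Smooth 𝒜.hom] [IsSeparated 𝒜.hom]
  {l : ℕ} [Fact l.Prime]

/-- the structure map of `Ω'`. -/
abbrev c' (R B L Ω' : Type u) [CommRing R] [CommRing B] [Algebra R B] [Field L] [Algebra B L] [Field Ω']
    [Algebra L Ω'] : R →+* Ω' := ((algebraMap L Ω').comp (algebraMap B L)).comp (algebraMap R B)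

omit [HenselianLocalRing R] [IsSepClosed (IsLocalRing.ResidueField R)] [IsSepClosure K Ω] [IsDomain B]
  [IsFractionRing B L] [IsSepClosure L Ω'] [Algebra.IsAlgebraic K L] in
theorem phi_comp (hKL : ∀ x : R, algebraMap K L (algebraMap R K x) = algebraMap B L (algebraMap R B x))
    (φ : Ω →ₐ[K] Ω') : (φ : Ω →+* Ω').comp (str (algebraMap R K) Ω) = c' R B L Ω' := by
  ext x
  change φ (algebraMap K Ω (algebraMap R K x)) = algebraMap L Ω' (algebraMap B L (algebraMap R B x))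
  rw [φ.commutes, ← hKL, ← IsScalarTower.algebraMap_apply K L Ω']

omit [HenselianLocalRing R] [IsSepClosed (IsLocalRing.ResidueField R)] [IsDomain B] [IsFractionRing B L]
  [IsSepClosure L Ω'] in
theorem gal_comp' (σ' : Ω' ≃ₐ[L] Ω') : (σ' : Ω' →+* Ω').comp (c' R B L Ω') = c' R B L Ω' := by
  ext x
  exact σ'.commutes _

omit [Smooth 𝒜.hom] in
/-- Fixed elements under Kummer base change. -/
theorem fixed_iff (hl : IsUnit (l : R))
    (hKL : ∀ x : R, algebraMap K L (algebraMap R K x) = algebraMap B L (algebraMap R B x))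
    {n : ℕ} (τ : Fin n → B)
    (hτ : Function.Surjective (MvPolynomial.aeval τ : MvPolynomial (Fin n) R →ₐ[R] B))
    (m : Fin n → ℕ) (hm : ∀ i, 0 < m i) (r : Fin n → R) (hr0 : ∀ i, algebraMap R K (r i) ≠ 0)
    (hr : ∀ i, τ i ^ m i = algebraMap R B (r i))
    (hLT : LT (algebraMap R K) 𝒜 l Ω) (φ : Ω →ₐ[K] Ω') (i : Fin n)
    (w : TateMod 𝒜 l (pt (str (algebraMap R K) Ω))) :
    (∀ σ : Ω ≃ₐ[K] Ω, (∀ (k : ℕ) (y : Ω), y ^ (l ^ k) = algebraMap K Ω (algebraMap R K (r i)) → σ y = y) →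
        gal (algebraMap R K) 𝒜 l σ w = w) ↔
      (∀ σ' : Ω' ≃ₐ[L] Ω', (∀ (k : ℕ) (y : Ω'), y ^ (l ^ k) = algebraMap L Ω' (algebraMap B L (τ i)) → σ' y = y) →
        tH 𝒜 l (σ' : Ω' →+* Ω') (gal_comp' σ') (tH 𝒜 l (φ : Ω →+* Ω') (phi_comp hKL φ) w) =
          tH 𝒜 l (φ : Ω →+* Ω') (phi_comp hKL φ) w) := by
  have hsepK : Algebra.IsSeparable K Ω := IsSepClosure.separable
  have hscΩ : IsSepClosed Ω := IsSepClosure.sep_closed K
  have hscΩ' : IsSepClosed Ω' := IsSepClosure.sep_closed L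
  have hgK : IsGalois K Ω := inferInstance
  have hgL : IsGalois L Ω' := inferInstance
  have hlΩ : ∀ k : ℕ, ((l ^ k : ℕ) : Ω) ≠ 0 := fun k => by
    rw [Nat.cast_pow]
    refine pow_ne_zero _ ?_
    have := hl.map (str (algebraMap R K) Ω)
    rw [map_natCast] at this
    exact this.ne_zero
  have hlΩ' : ∀ k : ℕ, ((l ^ k : ℕ) : Ω') ≠ 0 := fun k => by
    have := (map_ne_zero (φ : Ω →+* Ω')).mpr (hlΩ k)
    rwa [map_natCast] at this
  have hlR : ∀ k : ℕ, IsUnit ((l ^ k : ℕ) : R) := fun k => by rw [Nat.cast_pow]; exact hl.pow k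
  -- compatibility of actions
  have hcompat : ∀ (σ : Ω ≃ₐ[K] Ω) (σ' : Ω' ≃ₐ[L] Ω'), (∀ y, φ (σ y) = σ' (φ y)) →
      ∀ z, tH 𝒜 l (φ : Ω →+* Ω') (phi_comp hKL φ) (gal (algebraMap R K) 𝒜 l σ z) =
        tH 𝒜 l (σ' : Ω' →+* Ω') (gal_comp' σ') (tH 𝒜 l (φ : Ω →+* Ω') (phi_comp hKL φ) z) := by
    intro σ σ' h z
    unfold gal
    rw [tH_tH 𝒜 l (φ : Ω →+* Ω') (σ : Ω →+* Ω) (gal_comp σ _) (phi_comp hKL φ) (by
      rw [RingHom.comp_assoc, gal_comp, phi_comp hKL φ]),
      tH_tH 𝒜 l (σ' : Ω' →+* Ω') (φ : Ω →+* Ω') (phi_comp hKL φ) (gal_comp' σ') (by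
      rw [RingHom.comp_assoc, phi_comp hKL φ, gal_comp'])]
    exact tH_congr 𝒜 l (RingHom.ext h) _ _ z
  have hinj : Function.Injective (tH 𝒜 l (φ : Ω →+* Ω') (phi_comp hKL φ)) :=
    tH_injective 𝒜 l (φ : Ω →+* Ω') (φ : Ω →+* Ω').injective (phi_comp hKL φ)
  -- the value of `r i` in `Ω'`
  have hri : ∀ i, φ (algebraMap K Ω (algebraMap R K (r i))) = (algebraMap L Ω' (algebraMap B L (τ i))) ^ m i := by
    intro i
    rw [φ.commutes, ← map_pow, ← map_pow, hr, ← hKL, ← IsScalarTower.algebraMap_apply K L Ω']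
  constructor
  · intro h σ' hσ'
    obtain ⟨σ, hσ⟩ := GalExt.exists_restrict (K := K) (L := L) φ σ'
    rw [← hcompat σ σ' hσ, h σ]
    intro k y hy
    have hφi : Function.Injective φ := (φ : Ω →+* Ω').injective
    apply hφi
    rw [hσ]
    obtain ⟨y', hy'⟩ := exists_root (hlΩ' k) (algebraMap L Ω' (algebraMap B L (τ i)))
    have h0 : φ y ≠ 0 := by
      intro h0
      have h1 := congrArg φ hy
      rw [map_pow, h0, zero_pow (by have := (Fact.out : l.Prime).pos; positivity)] at h1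
      have h2 : algebraMap K Ω (algebraMap R K (r i)) ≠ 0 := (map_ne_zero (algebraMap K Ω)).mpr (hr0 i)
      exact (map_ne_zero (φ : Ω →+* Ω')).mpr h2 h1.symm
    have h1 : (y' ^ m i / φ y) ^ (l ^ k) = 1 := by
      rw [div_pow, ← pow_mul, mul_comm, pow_mul, hy', ← hri, ← map_pow, hy]
      exact div_self ((map_ne_zero (φ : Ω →+* Ω')).mpr ((map_ne_zero (algebraMap K Ω)).mpr (hr0 i)))
    obtain ⟨ζ, -, hζ⟩ := Groth.Agent.Pi1.H394.Mu.exists_root (c' R B L Ω') (l ^ k) (hlR k) _ h1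
    have h2 : σ' (y' ^ m i / φ y) = y' ^ m i / φ y := by
      rw [← hζ]; exact RingHom.congr_fun (gal_comp' σ') ζ
    rw [map_div₀, map_pow, hσ' k y' hy'] at h2
    have h3 : y' ^ m i ≠ 0 := by
      intro h4
      rw [h4, zero_div, zero_pow (by have := (Fact.out : l.Prime).pos; positivity)] at h1
      exact zero_ne_one h1
    have h5 : σ' (φ y) ≠ 0 := (map_ne_zero (σ' : Ω' →+* Ω')).mpr h0
    rw [div_eq_div_iff h5 h0] at h2
    exact (mul_left_cancel₀ h3 h2).symm
  · intro h σ hσ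
    obtain ⟨M, σ', hM, hσ'⟩ := GalExt.exists_ext hKL τ hτ m hm r hr φ σ
    refine hLT.eq_of_pow σ w (n := M * m i) (Nat.mul_pos hM (hm i)) (hinj ?_)
    have h1 : ∀ y, φ ((σ ^ (M * m i)) y) = (σ' ^ m i) (φ y) := by
      intro y
      rw [pow_mul]
      generalize m i = j
      induction j generalizing y with
      | zero => rfl
      | succ j ih =>
        rw [pow_succ', pow_succ']
        change φ ((σ ^ M) (((σ ^ M) ^ j) y)) = σ' ((σ' ^ j) (φ y))
        rw [hσ', ih]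
    rw [hcompat _ _ h1]
    refine h _ fun k y hy => ?_
    -- `y ^ m i` comes from `Ω`
    have h2 : (y ^ m i) ^ (l ^ k) = (φ : Ω →+* Ω') (algebraMap K Ω (algebraMap R K (r i))) := by
      rw [← pow_mul, mul_comm, pow_mul, hy]
      exact (hri i).symm
    obtain ⟨x, hx, hx'⟩ := exists_root_of_root (φ : Ω →+* Ω') (hlΩ k) _ _ h2
    have h3 : σ' (y ^ m i) = y ^ m i := by
      rw [← hx']
      change σ' (φ x) = φ x
      rw [← hσ']
      congr 1
      have h4 : σ x = x := hσ k x hx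
      have h5 : ∀ j : ℕ, (σ ^ j) x = x := fun j => by
        induction j with
        | zero => rfl
        | succ j ih => rw [pow_succ]; change (σ ^ j) (σ x) = x; rw [h4, ih]
      exact h5 M
    by_cases hy0 : y = 0
    · rw [hy0, map_zero]
    have h4 : (σ' y / y) ^ (l ^ k) = 1 := by
      rw [div_pow, ← map_pow, hy, σ'.commutes]
      exact div_self (by rw [← hy]; exact pow_ne_zero _ hy0)
    have h5 : (σ' y / y) ^ (m i) = 1 := by
      rw [div_pow, ← map_pow, h3]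
      exact div_self (pow_ne_zero _ hy0)
    obtain ⟨ζ, -, hζ⟩ := Groth.Agent.Pi1.H394.Mu.exists_root (c' R B L Ω') (l ^ k) (hlR k) _ h4
    have h6 : σ' (σ' y / y) = σ' y / y := by
      rw [← hζ]; exact RingHom.congr_fun (gal_comp' σ') ζ
    have h7 : ∀ j : ℕ, (σ' ^ j) y = (σ' y / y) ^ j * y := by
      intro j
      induction j with
      | zero => rw [pow_zero, pow_zero, _root_.one_mul]; rfl
      | succ j ih =>
        rw [pow_succ']
        change σ' ((σ' ^ j) y) = _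
        rw [ih, map_mul, map_pow, h6, pow_succ, _root_.mul_assoc, div_mul_cancel₀ _ hy0]
    rw [h7, h5, _root_.one_mul]

end main

end K125.KumBC
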