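import Groth.Agent.Neron.K125.RkAlg
import Groth.Agent.Neron.K125.KumBC
import Groth.Agent.Neron.K125.Gal
import Groth.Agent.Sga3B.AdAff
import Groth.Agent.SGA7.K566.NeronHom
import Groth.Agent.Sga3B.MaxTorBc505

/-!
# Ranks of the Tate modules of the fibres of a semiabelian group scheme (RKs)

`N` a smooth quasi-compact separated commutative group scheme over a ring `R`, with fibres of unipotent rank zero.

* `exists_dim_at`: the dimension of the fibres is constant along specializations;
* `finrank_fib_add`: `rank T_l N(F) + m = 2 d` for every algebraically closed `R`-field `F` over `s`, `m` the rank of a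
  maximal torus of the geometric fibre at `s`, `d` the dimension of the fibre (the fibre need not be connected);
  `finrank_fib_add_le` for a split subtorus;
* `main`, `main_le`: `R` a domain with proper generic fibre:
  `rank T_l N(F) + m = rank T_l N(Ω)` (resp. `≤`).
-/

set_option autoImplicit false
universe u
open CategoryTheory MonoidalCategory CartesianMonoidalCategory MonObj GrpObj AlgebraicGeometry Limits
open AbDual

namespace K125.Rk

open Groth.Agent Sga7.H109.Basic Sga7.H109.Struct K125.Pts K125.Tors K125.Tate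
open Sga7.H620.DimSmooth

/-- The dimension of the fibres is constant along specializations. -/
theorem exists_dim_at {S : Scheme.{u}} (N : Over S) [GrpObj N] [Smooth N.hom] (s : S) :
    ∃ n : ℕ, ∀ (F : Type u) [Field F] (t : Spec (CommRingCat.of F) ⟶ S),
      t (IsLocalRing.closedPoint F) ⤳ s → topologicalKrullDim (Red.bc t N).left = n := by
  obtain ⟨n, V, hx, hV⟩ := exists_relDim N.hom ((η[N] : 𝟙_ (Over S) ⟶ N).left s)
  refine ⟨n, fun F _ t ht => ?_⟩
  have hall : (η[N] : 𝟙_ (Over S) ⟶ N).left (t (IsLocalRing.closedPoint F)) ∈ V :=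
    (ht.map (η[N] : 𝟙_ (Over S) ⟶ N).left.continuous).mem_open V.2 hx
  have hη (y : S) : N.hom ((η[N] : 𝟙_ (Over S) ⟶ N).left y) = y := by
    have h1 : (η[N] : 𝟙_ (Over S) ⟶ N).left ≫ N.hom = 𝟙 _ := Over.w _
    rw [← Scheme.Hom.comp_apply, h1]
    rfl
  obtain ⟨z, hz1, hz2⟩ := Scheme.Pullback.exists_preimage_pullback
    (f := N.hom) (g := t) ((η[N] : 𝟙_ (Over S) ⟶ N).left (t (IsLocalRing.closedPoint F)))
    (IsLocalRing.closedPoint F) (hη _)
  let W := (pullback.fst N.hom t) ⁻¹ᵁ V
  have hzW : z ∈ W := by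
    change pullback.fst N.hom t z ∈ V
    rw [hz1]
    exact hall
  have hft : LocallyOfFiniteType (Red.bc t N).hom := by
    change LocallyOfFiniteType (pullback.snd N.hom t)
    infer_instance
  refine dim_eq_of_relDim (Red.bc t N) n (W := W) W.ι ⟨z, hzW⟩ ?_
  have h1 : IsPullback (pullback.fst N.hom t ∣_ V) W.ι V.ι (pullback.fst N.hom t) :=
    isPullback_morphismRestrict _ _
  have h2 : IsPullback (pullback.fst N.hom t) (pullback.snd N.hom t) N.hom t := .of_hasPullback _ _
  exact Ega2.GeoRelDim.relDim_of_isPullback (h1.paste_vert h2) hV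

/-- A proper group has no torus part. -/
theorem finrank_of_proper {K : Type u} [Field K] [IsAlgClosed K] (G : Over (Spec (CommRingCat.of K))) [GrpObj G]
    [IsCommMonObj G] [Smooth G.hom] [IsProper G.hom] (h : NoGa G) (l : ℕ) [Fact l.Prime] (hl : (l : K) ≠ 0) {d : ℕ}
    (hd : topologicalKrullDim G.left = d) :
    Module.Finite ℤ_[l] (TateMod G l (𝟙_ (Over (Spec (CommRingCat.of K))))) ∧
    Module.finrank ℤ_[l] (TateMod G l (𝟙_ (Over (Spec (CommRingCat.of K))))) = 2 * d := by
  obtain ⟨r, a, i, hi, hic, hdG, hfr, -⟩ := exists_struct' G h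
  have him : Mono i := Over.mono_of_mono_left i
  have hDt : Red.IsTorus (Red.DS (Spec (CommRingCat.of K)) (Fin r → ℤ)) := K452.TorusRig.isTorus_DS _ r
  have hi1 : i = 1 := K452.TorusRig.hom_eq_one_algClosed hDt i
  have hc := K530.TorPts.card_torsion hDt l hl r (Sga3.H816.TorusDim.topologicalKrullDim_DS K r)
  have hsub : Subsingleton {x : 𝟙_ (Over (Spec (CommRingCat.of K))) ⟶ Red.DS (Spec (CommRingCat.of K)) (Fin r → ℤ) //
      x ^ l = 1} := by
    refine ⟨fun x y => Subtype.ext ?_⟩
    rw [← cancel_mono i, hi1, MonObj.comp_one, MonObj.comp_one]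
  have hr : l ^ r = 1 := by
    rw [← hc]
    have : Unique {x : 𝟙_ (Over (Spec (CommRingCat.of K))) ⟶ Red.DS (Spec (CommRingCat.of K)) (Fin r → ℤ) //
      x ^ l = 1} := { default := ⟨1, one_pow _⟩, uniq := fun _ => Subsingleton.elim _ _ }
    exact Nat.card_unique
  have hr0 : r = 0 := by
    rcases Nat.pow_eq_one.1 hr with h1 | h1
    · exact absurd h1 (Fact.out : l.Prime).ne_one
    · exact h1
  have h3 : d = a + r := by rw [hd] at hdG; exact_mod_cast hdG
  refine ⟨(hfr l hl).1, ?_⟩
  rw [(hfr l hl).2]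
  omega

section fib

variable {R : Type u} [CommRing R] (N : Over (Spec (CommRingCat.of R))) [GrpObj N] [IsCommMonObj N] [Smooth N.hom]
  [QuasiCompact N.hom] [IsSeparated N.hom] (l : ℕ) [Fact l.Prime]

/-- The Tate module does not change under extensions of separably closed fields. -/
noncomputable def eqF {F F' : Type u} [Field F] [IsSepClosed F] [Field F'] {b : R →+* F} (φ : F →+* F')
    {c : R →+* F'} (h : φ.comp b = c) (hl : (l : F) ≠ 0) : TateMod N l (pt b) ≃ₗ[ℤ_[l]] TateMod N l (pt c) :=
  LinearEquiv.ofBijective (tH N l φ h) (tH_bijective N l (KumBC.isStrictlyHenselian_of_isSepClosed F) φ h (by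
    rw [← map_natCast φ]
    exact (map_ne_zero φ).2 hl))

variable {N l}

omit [GrpObj N] [IsCommMonObj N] [QuasiCompact N.hom] [IsSeparated N.hom] in
theorem smooth_bc {F : Type u} [Field F] (y : Spec (CommRingCat.of F) ⟶ Spec (CommRingCat.of R)) :
    Smooth (Red.bc y N).hom := by
  change Smooth (pullback.snd N.hom y)
  infer_instance

omit [GrpObj N] [IsCommMonObj N] [Smooth N.hom] [IsSeparated N.hom] in
theorem qc_bc {F : Type u} [Field F] (y : Spec (CommRingCat.of F) ⟶ Spec (CommRingCat.of R)) :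
    QuasiCompact (Red.bc y N).hom := by
  change QuasiCompact (pullback.snd N.hom y)
  infer_instance

/-- A geometric point of `Spec R` over `s` comes from a ring map through the standard one. -/
theorem exists_factor {F : Type u} [Field F] [IsAlgClosed F] (β : R →+* F) (s : Spec (CommRingCat.of R))
    (hs : (Spec.map (CommRingCat.ofHom β)) (IsLocalRing.closedPoint F) = s) :
    ∃ (β₀ : R →+* AlgebraicClosure ((Spec (CommRingCat.of R)).residueField s))
      (θ : AlgebraicClosure ((Spec (CommRingCat.of R)).residueField s) →+* F),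
      Spec.map (CommRingCat.ofHom β₀) = Red.geomPt s ∧ θ.comp β₀ = β := by
  obtain ⟨s', θ, hθ⟩ := Sga3B.MaxTorBc505.exists_factor_geomPt (Spec.map (CommRingCat.ofHom β))
  have hs' : s' = s := by
    rw [← hs, ← hθ]
    exact (Sga3B.AdAff.geomPt_apply s' _).symm
  subst hs'
  let β₀ := (Spec.preimage (Red.geomPt s')).hom
  have h0 : Spec.map (CommRingCat.ofHom β₀) = Red.geomPt s' := Spec.map_preimage _
  refine ⟨β₀, (Spec.preimage θ).hom, h0, ?_⟩
  have h1 : Spec.map (CommRingCat.ofHom ((Spec.preimage θ).hom.comp β₀)) = Spec.map (CommRingCat.ofHom β) := by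
    rw [CommRingCat.ofHom_comp, Spec.map_comp, h0]
    refine Eq.trans ?_ hθ
    congr 1
    exact Spec.map_preimage θ
  have h2 := Spec.map_injective h1
  exact congrArg CommRingCat.Hom.hom h2

omit [IsSeparated N.hom] in
theorem rank_geo {E : Type u} [Field E] [IsAlgClosed E] (y : Spec (CommRingCat.of E) ⟶ Spec (CommRingCat.of R))
    (β : R →+* E) (hβ : Spec.map (CommRingCat.ofHom β) = y) (s : Spec (CommRingCat.of R))
    (hs : y (IsLocalRing.closedPoint E) = s) (hN : SGA7.FibreUnipotentRankZero s N) (hl : (l : E) ≠ 0) {d : ℕ}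
    (hd : topologicalKrullDim (Red.bc y N).left = d) {T : Over (Spec (CommRingCat.of E))} [GrpObj T]
    (j : T ⟶ Red.bc y N) {m : ℕ} (hT : Red.IsSplitTorusWith (Fin m → ℤ) T) :
    (IsMonHom j → Mono j → Module.finrank ℤ_[l] (TateMod N l (pt β)) + m ≤ 2 * d) ∧
    (Red.IsMaximalTorus j → Module.finrank ℤ_[l] (TateMod N l (pt β)) + m = 2 * d) := by
  subst hβ
  have h1 : NoGa (Red.bc (Spec.map (CommRingCat.ofHom β)) N) :=
    SGA7.K566.NeronHom.noGa_bc (Spec.map (CommRingCat.ofHom β)) N s hs hN
  have := smooth_bc (N := N) (Spec.map (CommRingCat.ofHom β))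
  have := qc_bc (N := N) (Spec.map (CommRingCat.ofHom β))
  rw [← (tSec N l β).finrank_eq]
  exact ⟨fun _ _ => finrank_add_le _ h1 j hT l hl hd, fun hj => finrank_add _ h1 j hj hT l hl hd⟩

theorem natCast_ne_zero {F F' : Type u} [Field F] [Field F'] (φ : F →+* F') {n : ℕ} (h : (n : F') ≠ 0) :
    (n : F) ≠ 0 := by
  intro h0
  apply h
  rw [← map_natCast φ, h0, map_zero]

theorem specMap_closedPoint {F F' : Type u} [Field F] [Field F'] (b : R →+* F) (φ : F →+* F') {c : R →+* F'}
    (h : φ.comp b = c) : (Spec.map (CommRingCat.ofHom c)) (IsLocalRing.closedPoint F') =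
      (Spec.map (CommRingCat.ofHom b)) (IsLocalRing.closedPoint F) := by
  subst h
  rw [CommRingCat.ofHom_comp, Spec.map_comp]
  exact congrArg (Spec.map (CommRingCat.ofHom b)) (Subsingleton.elim (α := ↥(Spec (CommRingCat.of F))) _ _)

omit [IsSeparated N.hom] in
/-- **Rank of the Tate module of a geometric fibre.** -/
theorem rank_fib (s : Spec (CommRingCat.of R)) {F : Type u} [Field F] [IsAlgClosed F] (β : R →+* F)
    (hs : (Spec.map (CommRingCat.ofHom β)) (IsLocalRing.closedPoint F) = s) (hN : SGA7.FibreUnipotentRankZero s N)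
    (hl : (l : F) ≠ 0) {d : ℕ} (hd : topologicalKrullDim (Red.bc (Red.geomPt s) N).left = d)
    {T : Over (Spec (CommRingCat.of (AlgebraicClosure ((Spec (CommRingCat.of R)).residueField s))))} [GrpObj T]
    (j : T ⟶ Red.geomFibre s N) {m : ℕ} (hT : Red.IsSplitTorusWith (Fin m → ℤ) T) :
    (IsMonHom j → Mono j → Module.finrank ℤ_[l] (TateMod N l (pt β)) + m ≤ 2 * d) ∧
    (Red.IsMaximalTorus j → Module.finrank ℤ_[l] (TateMod N l (pt β)) + m = 2 * d) := by
  obtain ⟨β₀, θ, h0, hθ⟩ := exists_factor β s hs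
  have hl' := natCast_ne_zero θ hl
  rw [← (eqF N l θ hθ hl').finrank_eq]
  exact rank_geo (Red.geomPt s) β₀ h0 s (Sga3B.AdAff.geomPt_apply s _) hN hl' hd j hT

omit [QuasiCompact N.hom] [IsSeparated N.hom] in
/-- Rank of the Tate module of a proper geometric fibre. -/
theorem rank_proper (s : Spec (CommRingCat.of R)) {F : Type u} [Field F] [IsSepClosed F] (β : R →+* F)
    (hs : (Spec.map (CommRingCat.ofHom β)) (IsLocalRing.closedPoint F) = s) (hN : SGA7.FibreUnipotentRankZero s N)
    (hp : IsProper (Red.bc (Spec.map (CommRingCat.ofHom β)) N).hom)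
    (hl : (l : F) ≠ 0) {d : ℕ} (hd : ∀ (E : Type u) [Field E] (t : Spec (CommRingCat.of E) ⟶ Spec (CommRingCat.of R)),
      t (IsLocalRing.closedPoint E) = s → topologicalKrullDim (Red.bc t N).left = d) :
    Module.Finite ℤ_[l] (TateMod N l (pt β)) ∧ Module.finrank ℤ_[l] (TateMod N l (pt β)) = 2 * d := by
  let E := AlgebraicClosure F
  let θ : F →+* E := algebraMap F E
  have hlE : (l : E) ≠ 0 := by rw [← map_natCast θ]; exact (map_ne_zero θ).2 hl
  have hsE : (Spec.map (CommRingCat.ofHom (θ.comp β))) (IsLocalRing.closedPoint E) = s := by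
    rw [specMap_closedPoint β θ rfl, hs]
  have hpE : IsProper (Red.bc (Spec.map (CommRingCat.ofHom (θ.comp β))) N).hom := by
    have e : Spec.map (CommRingCat.ofHom (θ.comp β)) =
        Spec.map (CommRingCat.ofHom θ) ≫ Spec.map (CommRingCat.ofHom β) := by
      rw [CommRingCat.ofHom_comp, Spec.map_comp]
    have h1 : IsProper (pullback.snd N.hom (Spec.map (CommRingCat.ofHom β))) := hp
    rw [e]
    change IsProper (pullback.snd N.hom (Spec.map (CommRingCat.ofHom θ) ≫ Spec.map (CommRingCat.ofHom β)))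
    rw [← pullbackLeftPullbackSndIso_inv_snd_snd]
    infer_instance
  have h1 : NoGa (Red.bc (Spec.map (CommRingCat.ofHom (θ.comp β))) N) :=
    SGA7.K566.NeronHom.noGa_bc (Spec.map (CommRingCat.ofHom (θ.comp β))) N s hsE hN
  have := smooth_bc (N := N) (Spec.map (CommRingCat.ofHom (θ.comp β)))
  have h2 := finrank_of_proper (Red.bc (Spec.map (CommRingCat.ofHom (θ.comp β))) N) h1 l hlE (hd E _ hsE)
  let e1 := (tSec N l (θ.comp β)).trans (eqF N l θ rfl hl).symm
  have := h2.1
  exact ⟨Module.Finite.equiv e1, by rw [← e1.finrank_eq, h2.2]⟩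

variable [IsDomain R] {K : Type u} [Field K] [Algebra R K] [IsFractionRing R K] {Ω : Type u} [Field Ω] [Algebra K Ω]
  [IsSepClosed Ω]

omit [IsSeparated N.hom] in
/-- **(RKs)** The toric rank at `s` is the drop of the rank of the Tate module. -/
theorem main (hsab : SGA7.FibresUnipotentRankZero N)
    (hprop : IsProper (Red.bc (Spec.map (CommRingCat.ofHom (algebraMap R K))) N).hom)
    (s : Spec (CommRingCat.of R)) {F : Type u} [Field F] [IsAlgClosed F] (β : R →+* F)
    (hs : (Spec.map (CommRingCat.ofHom β)) (IsLocalRing.closedPoint F) = s) (hl : (l : F) ≠ 0) (hlΩ : (l : Ω) ≠ 0)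
    {T : Over (Spec (CommRingCat.of (AlgebraicClosure ((Spec (CommRingCat.of R)).residueField s))))} [GrpObj T]
    (j : T ⟶ Red.geomFibre s N) {m : ℕ} (hT : Red.IsSplitTorusWith (Fin m → ℤ) T) :
    (IsMonHom j → Mono j → Module.finrank ℤ_[l] (TateMod N l (pt β)) + m ≤
      Module.finrank ℤ_[l] (TateMod N l (pt (Gal.str (algebraMap R K) Ω)))) ∧
    (Red.IsMaximalTorus j → Module.finrank ℤ_[l] (TateMod N l (pt β)) + m =
      Module.finrank ℤ_[l] (TateMod N l (pt (Gal.str (algebraMap R K) Ω)))) := by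
  obtain ⟨d, hd⟩ := exists_dim_at N s
  let gp : Spec (CommRingCat.of R) :=
    (Spec.map (CommRingCat.ofHom (Gal.str (algebraMap R K) Ω))) (IsLocalRing.closedPoint Ω)
  have hgp : gp ⤳ s := by
    have h1 : gp = genericPoint (Spec (CommRingCat.of R)) := by
      have h2 : gp = (⊥ : PrimeSpectrum R) := by
        apply PrimeSpectrum.ext
        change Ideal.comap (Gal.str (algebraMap R K) Ω) (IsLocalRing.maximalIdeal Ω) = ⊥
        rw [IsLocalRing.maximalIdeal_eq_bot, ← RingHom.ker_eq_comap_bot, RingHom.ker_eq_bot_iff_eq_zero]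
        intro x hx
        have h3 : algebraMap K Ω (algebraMap R K x) = 0 := hx
        rw [map_eq_zero] at h3
        exact (IsFractionRing.injective R K) (by rw [h3, map_zero])
      rw [h2]
      exact (genericPoint_eq_bot_of_affine (CommRingCat.of R)).symm
    rw [h1]
    exact genericPoint_specializes s
  have hp : IsProper (Red.bc (Spec.map (CommRingCat.ofHom (Gal.str (algebraMap R K) Ω))) N).hom := by
    have e : Spec.map (CommRingCat.ofHom (Gal.str (algebraMap R K) Ω)) =
        Spec.map (CommRingCat.ofHom (algebraMap K Ω)) ≫ Spec.map (CommRingCat.ofHom (algebraMap R K)) := by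
      rw [CommRingCat.ofHom_comp, Spec.map_comp]
    have h1 : IsProper (pullback.snd N.hom (Spec.map (CommRingCat.ofHom (algebraMap R K)))) := hprop
    rw [e]
    change IsProper (pullback.snd N.hom
      (Spec.map (CommRingCat.ofHom (algebraMap K Ω)) ≫ Spec.map (CommRingCat.ofHom (algebraMap R K))))
    rw [← pullbackLeftPullbackSndIso_inv_snd_snd]
    infer_instance
  have h3 := rank_proper (l := l) gp (Gal.str (algebraMap R K) Ω) rfl (hsab gp) hp hlΩ (d := d)
    (fun E _ t ht => hd E t (by rw [ht]; exact hgp))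
  have h4 := rank_fib (l := l) s β hs (hsab s) hl (hd _ (Red.geomPt s)
    (specializes_of_eq (Sga3B.AdAff.geomPt_apply s _))) j hT
  rw [h3.2]
  exact h4

omit [QuasiCompact N.hom] [IsSeparated N.hom] [IsDomain R] [IsFractionRing R K] in
/-- `rank T_l N(Ω) = 2 d`, finiteness. -/
theorem finite_generic (hsab : SGA7.FibresUnipotentRankZero N)
    (hprop : IsProper (Red.bc (Spec.map (CommRingCat.ofHom (algebraMap R K))) N).hom) (hlΩ : (l : Ω) ≠ 0) :
    Module.Finite ℤ_[l] (TateMod N l (pt (Gal.str (algebraMap R K) Ω))) := by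
  let gp : Spec (CommRingCat.of R) :=
    (Spec.map (CommRingCat.ofHom (Gal.str (algebraMap R K) Ω))) (IsLocalRing.closedPoint Ω)
  obtain ⟨d, hd⟩ := exists_dim_at N gp
  have hp : IsProper (Red.bc (Spec.map (CommRingCat.ofHom (Gal.str (algebraMap R K) Ω))) N).hom := by
    have e : Spec.map (CommRingCat.ofHom (Gal.str (algebraMap R K) Ω)) =
        Spec.map (CommRingCat.ofHom (algebraMap K Ω)) ≫ Spec.map (CommRingCat.ofHom (algebraMap R K)) := by
      rw [CommRingCat.ofHom_comp, Spec.map_comp]
    have h1 : IsProper (pullback.snd N.hom (Spec.map (CommRingCat.ofHom (algebraMap R K)))) := hprop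
    rw [e]
    change IsProper (pullback.snd N.hom
      (Spec.map (CommRingCat.ofHom (algebraMap K Ω)) ≫ Spec.map (CommRingCat.ofHom (algebraMap R K))))
    rw [← pullbackLeftPullbackSndIso_inv_snd_snd]
    infer_instance
  exact (rank_proper (l := l) gp (Gal.str (algebraMap R K) Ω) rfl (hsab gp) hp hlΩ (d := d)
    (fun E _ t ht => hd E t (by rw [ht]))).1

end fib

end K125.Rk
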