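import Groth.Agent.Neron.K125.Pts
import Groth.Agent.Sga7.H274.TorsLift
import Groth.Agent.Sga7.H751.PowEtale
import Groth.Agent.Sga7.H620.Special

/-!
# Torsion points over strictly henselian local rings

For `N` smooth commutative over `Spec R`, `b : R →+* V` with `V` strictly henselian local, `φ : V →+* F` local with
`F` a field in which `n` is invertible, `N(V)[n] → N(F)[n]` is bijective.  In particular for `V ⊆ F` an extension of
separably closed fields.
-/

set_option autoImplicit false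
universe u

open CategoryTheory CategoryTheory.Limits AlgebraicGeometry MonObj
open MonoidalCategory CartesianMonoidalCategory

noncomputable section

namespace K125.Tors

open K125.Pts Groth.Agent.Sga7

section

variable {V F : Type u} [CommRing V] [IsLocalRing V] [Field F]

omit [IsLocalRing V] in
theorem natCast_isUnit (φ : V →+* F) [IsLocalHom φ] {n : ℕ} (hn : (n : F) ≠ 0) : IsUnit (n : V) :=
  isUnit_of_map_unit φ _ (by rw [map_natCast]; exact hn.isUnit)

omit [IsLocalRing V] in
theorem natCast_residueField_ne_zero {n : ℕ} (hn : IsUnit (n : V)) (s : ↥(Spec (CommRingCat.of V))) :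
    (n : (Spec (CommRingCat.of V)).residueField s) ≠ 0 := by
  have h1 : IsUnit (n : (Spec (CommRingCat.of V)).residueField s) := by
    have h2 : IsUnit (n : Γ(Spec (CommRingCat.of V), ⊤)) := by
      have h3 := hn.map (Scheme.ΓSpecIso (CommRingCat.of V)).inv.hom
      rwa [map_natCast] at h3
    have h4 := h2.map ((Spec (CommRingCat.of V)).evaluation ⊤ s trivial).hom
    rwa [map_natCast] at h4
  exact h1.ne_zero

theorem etale_pow (N : Over (Spec (CommRingCat.of V))) [GrpObj N] [IsCommMonObj N] [Smooth N.hom] {n : ℕ}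
    (hn : IsUnit (n : V)) : Etale ((𝟙 N : N ⟶ N) ^ n).left :=
  H751.PowEtale.etale_pow N n (natCast_residueField_ne_zero hn)

theorem spec_map_closedPoint (φ : V →+* F) [IsLocalHom φ] :
    (Spec.map (CommRingCat.ofHom φ)) (IsLocalRing.closedPoint F) = IsLocalRing.closedPoint V :=
  IsLocalRing.comap_closedPoint φ

/-- Lifting, for group schemes over `V`. -/
theorem exists_lift_aux (hV : EtCoh.IsStrictlyHenselianLocalRing V) (N : Over (Spec (CommRingCat.of V))) [GrpObj N]
    [IsCommMonObj N] [Smooth N.hom] (φ : V →+* F) [IsLocalHom φ] {n : ℕ} (hn : (n : F) ≠ 0) (z : pt φ ⟶ N)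
    (hz : z ^ n = 1) :
    ∃ w : 𝟙_ (Over (Spec (CommRingCat.of V))) ⟶ N, w ^ n = 1 ∧ toUnit (pt φ) ≫ w = z := by
  have h1 := etale_pow N (natCast_isUnit φ hn)
  let i : (Over.map (Spec.map (CommRingCat.ofHom φ))).obj (𝟙_ (Over (Spec (CommRingCat.of F)))) ≅ pt φ :=
    Over.isoMk (Iso.refl _) (by
      change 𝟙 _ ≫ Spec.map _ = 𝟙 _ ≫ Spec.map _
      rfl)
  have hi : (i.hom).left = 𝟙 _ := rfl
  obtain ⟨w, hw, hw'⟩ := H274.TorsLift.exists_torsion_lift hV N n (Spec.map (CommRingCat.ofHom φ))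
    (spec_map_closedPoint φ) (Groth.Agent.Sga3B.BcPts.bcMulEquiv (Spec.map (CommRingCat.ofHom φ)) _ N (i.hom ≫ z))
    (by rw [← map_pow, ← MonObj.comp_pow, hz, MonObj.comp_one, map_one])
  refine ⟨w, hw, ?_⟩
  rw [H274.TorsLift.bcPt_eq_iff] at hw'
  ext1
  rw [Over.comp_left]
  have h2 : (toUnit (pt φ)).left = Spec.map (CommRingCat.ofHom φ) := rfl
  rw [h2]
  refine hw'.trans ?_
  have h3 : (Groth.Agent.Sga3B.BcPts.bcEquiv (Spec.map (CommRingCat.ofHom φ)) (𝟙_ (Over (Spec (CommRingCat.of F))))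
      N).symm ((Groth.Agent.Sga3B.BcPts.bcMulEquiv (Spec.map (CommRingCat.ofHom φ)) _ N) (i.hom ≫ z)) =
      i.hom ≫ z := (Groth.Agent.Sga3B.BcPts.bcEquiv _ _ N).symm_apply_apply _
  rw [h3, Over.comp_left, hi, Category.id_comp]

end

section

variable {R V F : Type u} [CommRing R] [CommRing V] [IsLocalRing V] [Field F]
  (N : Over (Spec (CommRingCat.of R))) [GrpObj N] [IsCommMonObj N] [Smooth N.hom]

/-- Precomposition with an isomorphism. -/
def preE {C : Type*} [Category C] [CartesianMonoidalCategory C] {X Y : C} (i : X ≅ Y) (G : C) [GrpObj G] :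
    (Y ⟶ G) ≃* (X ⟶ G) where
  toFun x := i.hom ≫ x
  invFun x := i.inv ≫ x
  left_inv x := by simp
  right_inv x := by simp
  map_mul' x y := MonObj.comp_mul _ x y

lemma preE_apply {C : Type*} [Category C] [CartesianMonoidalCategory C] {X Y : C} (i : X ≅ Y) (G : C) [GrpObj G]
    (x : Y ⟶ G) : preE i G x = i.hom ≫ x := rfl

/-- `Spec W` over `Spec W` seen over `Spec R`. -/
def secIso {W : Type u} [CommRing W] (b : R →+* W) :
    pt b ≅ (Over.map (Spec.map (CommRingCat.ofHom b))).obj (𝟙_ (Over (Spec (CommRingCat.of W)))) :=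
  Over.isoMk (Iso.refl (Spec (CommRingCat.of W)))
    ((Category.id_comp (𝟙 (Spec (CommRingCat.of W)) ≫ Spec.map (CommRingCat.ofHom b))).trans
      (Category.id_comp (Spec.map (CommRingCat.ofHom b))))

lemma secIso_hom_left {W : Type u} [CommRing W] (b : R →+* W) : (secIso b).hom.left = 𝟙 _ := rfl

/-- Sections over `V`. -/
def secE {W : Type u} [CommRing W] (b : R →+* W) :
    (𝟙_ (Over (Spec (CommRingCat.of W))) ⟶ Red.bc (Spec.map (CommRingCat.ofHom b)) N) ≃* (pt b ⟶ N) :=
  (Groth.Agent.Sga3B.BcPts.bcMulEquiv (Spec.map (CommRingCat.ofHom b)) (𝟙_ _) N).symm.trans (preE (secIso b) N)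

omit [IsCommMonObj N] [Smooth N.hom] in
lemma secE_left {W : Type u} [CommRing W] (b : R →+* W)
    (x : 𝟙_ (Over (Spec (CommRingCat.of W))) ⟶ Red.bc (Spec.map (CommRingCat.ofHom b)) N) :
    (secE N b x).left = x.left ≫ pullback.fst N.hom (Spec.map (CommRingCat.ofHom b)) := by
  have h1 : secE N b x = (secIso b).hom ≫ (((Over.mapPullbackAdj _).homEquiv (𝟙_ _) N).symm x) := rfl
  rw [h1, Adjunction.homEquiv_counit, Over.comp_left, secIso_hom_left]
  simp

/-- `N(V)[n] → N(F)[n]` is surjective. -/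
theorem exists_lift (hV : EtCoh.IsStrictlyHenselianLocalRing V) {b : R →+* V} (φ : V →+* F) [IsLocalHom φ]
    {c : R →+* F} (h : φ.comp b = c) {n : ℕ} (hn : (n : F) ≠ 0) (z : pt c ⟶ N) (hz : z ^ n = 1) :
    ∃ w : pt b ⟶ N, w ^ n = 1 ∧ pmH N φ h w = z := by
  subst h
  have : Smooth (Red.bc (Spec.map (CommRingCat.ofHom b)) N).hom := by dsimp; infer_instance
  obtain ⟨w, hw, hw'⟩ := exists_lift_aux hV (Red.bc (Spec.map (CommRingCat.ofHom b)) N) φ hn
    ((bcE N b φ).symm z) (by rw [← map_pow, hz, map_one])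
  refine ⟨secE N b w, by rw [← map_pow, hw, map_one], ?_⟩
  have h1 := congrArg (bcE N b φ) hw'
  rw [MulEquiv.apply_symm_apply] at h1
  rw [← h1]
  ext1
  rw [pmH_apply, Over.comp_left, secE_left, bcE_left, Over.comp_left]
  exact (Category.assoc _ _ _).symm

omit [Field F] in
/-- `N(V)[n] → N(F)[n]` is injective. -/
theorem eq_one_of_map {F : Type u} [Field F] {b : R →+* V} (φ : V →+* F) [IsLocalHom φ]
    {c : R →+* F} (h : φ.comp b = c) {n : ℕ} (hn : (n : F) ≠ 0) (w : pt b ⟶ N) (hw : w ^ n = 1)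
    (hw' : pmH N φ h w = 1) : w = 1 := by
  subst h
  have : Smooth (Red.bc (Spec.map (CommRingCat.ofHom b)) N).hom := by dsimp; infer_instance
  have h1 := etale_pow (Red.bc (Spec.map (CommRingCat.ofHom b)) N) (natCast_isUnit φ hn)
  obtain ⟨x, rfl⟩ := (secE N b).surjective w
  have h2 : x = 1 := by
    refine H620.Special.eq_one_of_special n h1 (pt φ) (IsLocalRing.closedPoint F) (spec_map_closedPoint φ) x
      ((secE N b).injective (by rw [map_pow, hw, map_one])) ?_
    apply (bcE N b φ).injective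
    rw [map_one]
    refine Eq.trans ?_ hw'
    ext1
    rw [pmH_apply, Over.comp_left, secE_left, bcE_left, Over.comp_left]
    exact Category.assoc _ _ _
  rw [h2, map_one]

theorem eq_of_map {F : Type u} [Field F] {b : R →+* V} (φ : V →+* F) [IsLocalHom φ]
    {c : R →+* F} (h : φ.comp b = c) {n : ℕ} (hn : (n : F) ≠ 0) (w w' : pt b ⟶ N) (hw : w ^ n = 1)
    (hw' : w' ^ n = 1) (hww : pmH N φ h w = pmH N φ h w') : w = w' := by
  have h1 : w * w'⁻¹ = 1 := by
    have hc : Commute w w'⁻¹ := Commute.all (S := pt b ⟶ N) w w'⁻¹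
    exact eq_one_of_map N φ h hn _ (by rw [hc.mul_pow, hw, inv_pow, hw', inv_one, _root_.mul_one])
      (by rw [map_mul, map_inv, hww, mul_inv_cancel])
  exact mul_inv_eq_one.mp h1

end

end K125.Tors
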