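import Groth.Agent.Neron.K125.KumBC
import Mathlib.RingTheory.Localization.Integral
import Mathlib.FieldTheory.IsAlgClosed.AlgebraicClosure

/-!
# Kummer base change: algebra, and the comparison of condition `⋆(l)`
-/

set_option autoImplicit false
universe u

open CategoryTheory CategoryTheory.Limits AlgebraicGeometry MonObj
open MonoidalCategory CartesianMonoidalCategory
open AbDual

noncomputable section

namespace K125.KumRow

open K125.Pts K125.Tors K125.Tate K125.Gal K125.KumBC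

section algebra

variable {R B : Type u} [CommRing R] [IsDomain R] [CommRing B] [IsDomain B] [Algebra R B] {n : ℕ} (r : Fin n → R)
  (m : Fin n → ℕ) (hm : ∀ i, 0 < m i) (τ : Fin n → B)
  (hτsurj : Function.Surjective (MvPolynomial.aeval τ : MvPolynomial (Fin n) R →ₐ[R] B))
  (hτker : RingHom.ker (MvPolynomial.aeval τ : MvPolynomial (Fin n) R →ₐ[R] B) =
      Ideal.span (Set.range fun i => MvPolynomial.X i ^ m i - MvPolynomial.C (r i)))

include hτker in
omit [IsDomain R] [IsDomain B] in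
theorem tau_pow (i : Fin n) : τ i ^ m i = algebraMap R B (r i) := by
  have h1 : (MvPolynomial.X i ^ m i - MvPolynomial.C (r i) : MvPolynomial (Fin n) R) ∈
      RingHom.ker (MvPolynomial.aeval τ : MvPolynomial (Fin n) R →ₐ[R] B) := by
    rw [hτker]; exact Ideal.subset_span ⟨i, rfl⟩
  rw [RingHom.mem_ker, map_sub, map_pow, MvPolynomial.aeval_X, MvPolynomial.aeval_C, sub_eq_zero] at h1
  exact h1

include hm hτker in
omit [IsDomain B] in
theorem injective_algebraMap : Function.Injective (algebraMap R B) := by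
  rw [injective_iff_map_eq_zero]
  intro c hc
  let E := AlgebraicClosure (FractionRing R)
  have h0 : ∀ i, ∃ y : E, y ^ m i = algebraMap R E (r i) := fun i =>
    IsAlgClosed.exists_pow_nat_eq _ (hm i)
  choose y hy using h0
  let g : MvPolynomial (Fin n) R →ₐ[R] E := MvPolynomial.aeval y
  have h1 : (MvPolynomial.C c : MvPolynomial (Fin n) R) ∈
      RingHom.ker (MvPolynomial.aeval τ : MvPolynomial (Fin n) R →ₐ[R] B) := by
    rw [RingHom.mem_ker, MvPolynomial.aeval_C, hc]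
  rw [hτker] at h1
  have h2 : Ideal.span (Set.range fun i => (MvPolynomial.X i ^ m i - MvPolynomial.C (r i) :
      MvPolynomial (Fin n) R)) ≤ RingHom.ker g := by
    rw [Ideal.span_le]
    rintro _ ⟨i, rfl⟩
    rw [SetLike.mem_coe, RingHom.mem_ker]
    simp only [g, map_sub, map_pow, MvPolynomial.aeval_X, MvPolynomial.aeval_C, hy, sub_self]
  have h3 := h2 h1
  rw [RingHom.mem_ker] at h3
  simp only [g, MvPolynomial.aeval_C] at h3
  have h4 : Function.Injective (algebraMap R E) := by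
    rw [IsScalarTower.algebraMap_eq R (FractionRing R) E]
    exact (algebraMap (FractionRing R) E).injective.comp (IsFractionRing.injective R (FractionRing R))
  exact h4 (h3.trans (map_zero _).symm)

include hm hτker hτsurj in
omit [IsDomain R] [IsDomain B] in
theorem isIntegral : Algebra.IsIntegral R B := by
  have h1 : Algebra.adjoin R (Set.range τ) = ⊤ := by
    rw [Algebra.adjoin_range_eq_range_aeval]
    exact (AlgHom.range_eq_top _).mpr hτsurj
  have h2 : ∀ x ∈ Set.range τ, IsIntegral R x := by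
    rintro _ ⟨i, rfl⟩
    refine IsIntegral.of_pow (hm i) ?_
    rw [tau_pow r m τ hτker]
    exact isIntegral_algebraMap
  have h3 := Algebra.IsIntegral.adjoin h2
  rw [h1] at h3
  exact ⟨fun x => (isIntegral_algHom_iff Subalgebra.topEquiv.symm.toAlgHom
    Subalgebra.topEquiv.symm.injective).mp (h3.isIntegral (Subalgebra.topEquiv.symm x))⟩

end algebra

/-- Transfer of a sum decomposition along an additive equivalence. -/
theorem star_iff {T T' : Type*} [AddCommGroup T] [AddCommGroup T'] (E : T ≃+ T') {n : ℕ}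
    (P : Fin n → T → Prop) (P' : Fin n → T' → Prop) (h : ∀ i w, P i w ↔ P' i (E w)) :
    (n = 0 ∨ ∀ z : T, ∃ w : Fin n → T, (∀ i, P i (w i)) ∧ ∑ i, w i = z) ↔
      (n = 0 ∨ ∀ z : T', ∃ w : Fin n → T', (∀ i, P' i (w i)) ∧ ∑ i, w i = z) := by
  refine or_congr Iff.rfl ⟨fun H z => ?_, fun H z => ?_⟩
  · obtain ⟨w, hw, hs⟩ := H (E.symm z)
    refine ⟨fun i => E (w i), fun i => (h i _).mp (hw i), ?_⟩
    rw [← map_sum, hs, AddEquiv.apply_symm_apply]
  · obtain ⟨w, hw, hs⟩ := H (E z)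
    refine ⟨fun i => E.symm (w i), fun i => (h i _).mpr (by rw [AddEquiv.apply_symm_apply]; exact hw i), ?_⟩
    rw [← map_sum, hs, AddEquiv.symm_apply_apply]

section main

/-- The comparison of `⋆(l)` for `A` and `A'`, given level two. -/
theorem main
    (R : Type u) [CommRing R] [IsDomain R] [HenselianLocalRing R]
    [IsSepClosed (IsLocalRing.ResidueField R)]
    {n : ℕ} (r : Fin n → R) (hr0 : ∀ i, r i ≠ 0)
    (𝒜 : Over (Spec (CommRingCat.of R))) [GrpObj 𝒜] [IsCommMonObj 𝒜]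
    [Smooth 𝒜.hom] [IsSeparated 𝒜.hom]
    (K Ω : Type u) [Field K] [Algebra R K] [IsFractionRing R K] [Field Ω] [Algebra K Ω] [IsSepClosure K Ω]
    (A : Over (Spec (CommRingCat.of K))) [GrpObj A] [IsCommMonObj A]
    (e : Red.bc (Spec.map (CommRingCat.ofHom (algebraMap R K))) 𝒜 ≅ A) (he : IsMonHom e.hom)
    (l : ℕ) (hl : l.Prime) (hlp : (l : IsLocalRing.ResidueField R) ≠ 0)
    (hLT : haveI : Fact l.Prime := ⟨hl⟩; LT (algebraMap R K) 𝒜 l Ω)
    (ρ : (Ω ≃ₐ[K] Ω) → AbDual.TateMod A l (SGA7.pt Ω) → AbDual.TateMod A l (SGA7.pt Ω))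
    (hρ : ∀ (τ : Ω ≃ₐ[K] Ω) (z : AbDual.TateMod A l (SGA7.pt Ω)) (k : ℕ),
      (AbDual.TateMod.component A l (SGA7.pt Ω) k (ρ τ z)).toMul =
        SGA7.galAct τ (AbDual.TateMod.component A l (SGA7.pt Ω) k z).toMul)
    (mdeg : Fin n → ℕ) (hmdeg : ∀ i, 0 < mdeg i)
    (B : Type u) [CommRing B] [IsDomain B] [Algebra R B] (τ : Fin n → B)
    (hτsurj : Function.Surjective (MvPolynomial.aeval τ : MvPolynomial (Fin n) R →ₐ[R] B))
    (hτker : RingHom.ker (MvPolynomial.aeval τ : MvPolynomial (Fin n) R →ₐ[R] B) =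
      Ideal.span (Set.range fun i => MvPolynomial.X i ^ mdeg i - MvPolynomial.C (r i)))
    (L Ω' : Type u) [Field L] [Algebra B L] [IsFractionRing B L] [Field Ω'] [Algebra L Ω'] [IsSepClosure L Ω']
    (A' : Over (Spec (CommRingCat.of L))) [GrpObj A'] [IsCommMonObj A']
    (e' : Red.bc (Spec.map (CommRingCat.ofHom (algebraMap B L)))
      (Red.bc (Spec.map (CommRingCat.ofHom (algebraMap R B))) 𝒜) ≅ A') (he' : IsMonHom e'.hom)
    (ρ' : (Ω' ≃ₐ[L] Ω') → AbDual.TateMod A' l (SGA7.pt Ω') → AbDual.TateMod A' l (SGA7.pt Ω'))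
    (hρ' : ∀ (τ' : Ω' ≃ₐ[L] Ω') (z : AbDual.TateMod A' l (SGA7.pt Ω')) (k : ℕ),
      (AbDual.TateMod.component A' l (SGA7.pt Ω') k (ρ' τ' z)).toMul =
        SGA7.galAct τ' (AbDual.TateMod.component A' l (SGA7.pt Ω') k z).toMul) :
    (n = 0 ∨ ∀ z : AbDual.TateMod A l (SGA7.pt Ω), ∃ w : Fin n → AbDual.TateMod A l (SGA7.pt Ω),
        (∀ (i : Fin n) (σ : Ω ≃ₐ[K] Ω),
          (∀ (k : ℕ) (y : Ω), y ^ (l ^ k) = algebraMap K Ω (algebraMap R K (r i)) → σ y = y) →
            ρ σ (w i) = w i) ∧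
        ∑ i, w i = z) ↔
    (n = 0 ∨ ∀ z : AbDual.TateMod A' l (SGA7.pt Ω'), ∃ w : Fin n → AbDual.TateMod A' l (SGA7.pt Ω'),
        (∀ (i : Fin n) (σ : Ω' ≃ₐ[L] Ω'),
          (∀ (k : ℕ) (y : Ω'), y ^ (l ^ k) = algebraMap L Ω' (algebraMap B L (τ i)) → σ y = y) →
            ρ' σ (w i) = w i) ∧
        ∑ i, w i = z) := by
  have hF : Fact l.Prime := ⟨hl⟩
  have hlu : IsUnit (l : R) := by
    have h1 : ¬ (l : R) ∈ IsLocalRing.maximalIdeal R := fun h => by
      apply hlp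
      rw [← map_natCast (IsLocalRing.residue R)]
      exact (IsLocalRing.residue_eq_zero_iff _).mpr h
    exact not_not.mp h1
  have hinj : Function.Injective ((algebraMap B L).comp (algebraMap R B)) :=
    (IsFractionRing.injective B L).comp (injective_algebraMap r mdeg hmdeg τ hτker)
  let kl : K →+* L := IsFractionRing.lift hinj
  let aKL : Algebra K L := kl.toAlgebra
  let aKΩ' : Algebra K Ω' := ((algebraMap L Ω').comp kl).toAlgebra
  have tw : IsScalarTower K L Ω' := IsScalarTower.of_algebraMap_eq fun _ => rfl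
  have hKL : ∀ x : R, algebraMap K L (algebraMap R K x) = algebraMap B L (algebraMap R B x) := fun x =>
    IsFractionRing.lift_algebraMap hinj x
  have hint := isIntegral r mdeg hmdeg τ hτsurj hτker
  have halg : Algebra.IsAlgebraic K L := by
    let aRL : Algebra R L := ((algebraMap B L).comp (algebraMap R B)).toAlgebra
    have t1 : IsScalarTower R B L := IsScalarTower.of_algebraMap_eq fun _ => rfl
    have t2 : IsScalarTower R K L := IsScalarTower.of_algebraMap_eq fun x => (hKL x).symm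
    have h1 : Algebra.IsAlgebraic R B := ⟨fun x => (hint.isIntegral x).isAlgebraic⟩
    have h2 : Algebra.IsAlgebraic R L := by
      have : FaithfulSMul R L := (faithfulSMul_iff_algebraMap_injective R L).mpr hinj
      exact (IsFractionRing.isAlgebraic_iff' R B L).mp h1
    exact IsFractionRing.comap_isAlgebraic_iff.mp h2
  have hsepK : Algebra.IsSeparable K Ω := IsSepClosure.separable
  have hscΩ : IsSepClosed Ω := IsSepClosure.sep_closed K
  have hscΩ' : IsSepClosed Ω' := IsSepClosure.sep_closed L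
  let φ : Ω →ₐ[K] Ω' := IsSepClosed.lift
  have hlΩ' : (l : Ω') ≠ 0 := by
    have := hlu.map (c' R B L Ω')
    rw [map_natCast] at this
    exact this.ne_zero
  have hcomm : IsCommMonObj (Red.bc (Spec.map (CommRingCat.ofHom (algebraMap R B))) 𝒜) := inferInstance
  have hbij : Function.Bijective (tH 𝒜 l (φ : Ω →+* Ω') (phi_comp hKL φ)) :=
    tH_bijective 𝒜 l (isStrictlyHenselian_of_isSepClosed Ω) (φ : Ω →+* Ω') (phi_comp hKL φ) hlΩ'
  let E₁ : TateMod A l (SGA7.pt Ω) ≃+ TateMod 𝒜 l (pt (str (algebraMap R K) Ω)) :=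
    (tA (algebraMap R K) 𝒜 l e he).toAddEquiv
  let E₂ : TateMod 𝒜 l (pt (str (algebraMap R K) Ω)) ≃+ TateMod 𝒜 l (pt (c' R B L Ω')) :=
    AddEquiv.ofBijective (tH 𝒜 l (φ : Ω →+* Ω') (phi_comp hKL φ)).toAddMonoidHom hbij
  let E₃ : TateMod A' l (SGA7.pt Ω') ≃+ TateMod 𝒜 l (pt (c' R B L Ω')) :=
    ((tA (algebraMap B L) (Red.bc (Spec.map (CommRingCat.ofHom (algebraMap R B))) 𝒜) l e' he').trans
      (tBc 𝒜 l (algebraMap R B) (str (algebraMap B L) Ω'))).toAddEquiv
  have hE₁ : ∀ (σ : Ω ≃ₐ[K] Ω) (w : TateMod A l (SGA7.pt Ω)),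
      E₁ (ρ σ w) = gal (algebraMap R K) 𝒜 l σ (E₁ w) := fun σ w =>
    tA_rho (algebraMap R K) 𝒜 l e he ρ hρ σ w
  have hE₃ : ∀ (σ : Ω' ≃ₐ[L] Ω') (w : TateMod A' l (SGA7.pt Ω')),
      E₃ (ρ' σ w) = tH 𝒜 l (σ : Ω' →+* Ω') (gal_comp' σ) (E₃ w) := by
    intro σ w
    have h1 := tA_rho (algebraMap B L) (Red.bc (Spec.map (CommRingCat.ofHom (algebraMap R B))) 𝒜) l e' he' ρ' hρ' σ w
    refine co_ext fun k => ?_
    change bcE 𝒜 (algebraMap R B) (str (algebraMap B L) Ω')
      (co (tA (algebraMap B L) (Red.bc (Spec.map (CommRingCat.ofHom (algebraMap R B))) 𝒜) l e' he' (ρ' σ w)) k) = _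
    rw [h1, co_gal, bcE_pmH 𝒜 (algebraMap R B) _ _ (gal_comp' σ)]
    rfl
  rw [star_iff E₁ (fun i w => ∀ σ : Ω ≃ₐ[K] Ω,
      (∀ (k : ℕ) (y : Ω), y ^ (l ^ k) = algebraMap K Ω (algebraMap R K (r i)) → σ y = y) → ρ σ w = w)
    (fun i w => ∀ σ : Ω ≃ₐ[K] Ω,
      (∀ (k : ℕ) (y : Ω), y ^ (l ^ k) = algebraMap K Ω (algebraMap R K (r i)) → σ y = y) →
        gal (algebraMap R K) 𝒜 l σ w = w)
    (fun i w => forall_congr' fun σ => imp_congr_right fun _ => by
      rw [← hE₁]; exact E₁.injective.eq_iff.symm)]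
  rw [star_iff E₂ _ (fun i w => ∀ σ' : Ω' ≃ₐ[L] Ω',
      (∀ (k : ℕ) (y : Ω'), y ^ (l ^ k) = algebraMap L Ω' (algebraMap B L (τ i)) → σ' y = y) →
        tH 𝒜 l (σ' : Ω' →+* Ω') (gal_comp' σ') w = w)
    (fun i w => fixed_iff 𝒜 hlu hKL τ hτsurj mdeg hmdeg r
      (fun i => (map_ne_zero_iff (algebraMap R K) (IsFractionRing.injective R K)).mpr (hr0 i))
      (tau_pow r mdeg τ hτker) hLT φ i w)]
  rw [star_iff E₃ (fun i w => ∀ σ' : Ω' ≃ₐ[L] Ω',
      (∀ (k : ℕ) (y : Ω'), y ^ (l ^ k) = algebraMap L Ω' (algebraMap B L (τ i)) → σ' y = y) → ρ' σ' w = w)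
    (fun i w => ∀ σ' : Ω' ≃ₐ[L] Ω',
      (∀ (k : ℕ) (y : Ω'), y ^ (l ^ k) = algebraMap L Ω' (algebraMap B L (τ i)) → σ' y = y) →
        tH 𝒜 l (σ' : Ω' →+* Ω') (gal_comp' σ') w = w)
    (fun i w => forall_congr' fun σ => imp_congr_right fun _ => by
      rw [← hE₃]; exact E₃.injective.eq_iff.symm)]

end main

end K125.KumRow
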