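import Groth.Agent.Sga3B.BcPts
import Groth.Agent.Sga7.H729.Dict
import Groth.Agent.AbVar.K521.BcTate
import Groth.Prelude.Def_AbDual
import Groth.Prelude.Def_SGA7IX

/-!
# Points of a group scheme with values in rings

For `N` over `Spec R` and a ring homomorphism `b : R →+* B`, the points of `N` in `B` are the morphisms `pt b ⟶ N`.
* `pmH φ h : (pt b ⟶ N) →* (pt c ⟶ N)`: functoriality in the ring;
* `pmH_injective`: injectivity for separated `N` and injective `φ`;
* `bcE f b N`: points of the base change;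
* `exists_of_galois_fixed`: Galois descent of points.
-/

set_option autoImplicit false
universe u

open CategoryTheory CategoryTheory.Limits AlgebraicGeometry MonObj
open MonoidalCategory CartesianMonoidalCategory

noncomputable section

namespace K125.Pts

section basic

variable {R : Type u} [CommRing R] {B C D : Type u} [CommRing B] [CommRing C] [CommRing D]

/-- `Spec B` over `Spec R` through a ring homomorphism. -/
abbrev pt (b : R →+* B) : Over (Spec (CommRingCat.of R)) := Over.mk (Spec.map (CommRingCat.ofHom b))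

/-- the morphism of spectra of a ring homomorphism compatible with the structure maps. -/
def pm (φ : B →+* C) {b : R →+* B} {c : R →+* C} (h : φ.comp b = c) : pt c ⟶ pt b :=
  Over.homMk (Spec.map (CommRingCat.ofHom φ)) (by
    subst h
    change Spec.map _ ≫ Spec.map _ = Spec.map _
    rw [← Spec.map_comp, ← CommRingCat.ofHom_comp])

@[simp] lemma pm_left (φ : B →+* C) {b : R →+* B} {c : R →+* C} (h : φ.comp b = c) :
    (pm φ h).left = Spec.map (CommRingCat.ofHom φ) := rfl

lemma pm_comp (ψ : C →+* D) (φ : B →+* C) {b : R →+* B} {c : R →+* C} {d : R →+* D} (h : φ.comp b = c)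
    (h' : ψ.comp c = d) (h'' : (ψ.comp φ).comp b = d) : pm ψ h' ≫ pm φ h = pm (ψ.comp φ) h'' := by
  ext1
  change Spec.map _ ≫ Spec.map _ = Spec.map _
  rw [← Spec.map_comp, ← CommRingCat.ofHom_comp]

lemma pm_congr {φ φ' : B →+* C} (e : φ = φ') {b : R →+* B} {c : R →+* C} (h : φ.comp b = c)
    (h' : φ'.comp b = c) : pm φ h = pm φ' h' := by subst e; rfl

lemma pm_id {b : R →+* B} (h : (RingHom.id B).comp b = b) : pm (RingHom.id B) h = 𝟙 _ := by
  ext1
  exact Spec.map_id _

variable (N : Over (Spec (CommRingCat.of R))) [GrpObj N]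

/-- functoriality of the points in the ring. -/
def pmH (φ : B →+* C) {b : R →+* B} {c : R →+* C} (h : φ.comp b = c) : (pt b ⟶ N) →* (pt c ⟶ N) where
  toFun x := pm φ h ≫ x
  map_one' := MonObj.comp_one _
  map_mul' x y := MonObj.comp_mul _ x y

lemma pmH_apply (φ : B →+* C) {b : R →+* B} {c : R →+* C} (h : φ.comp b = c) (x : pt b ⟶ N) :
    pmH N φ h x = pm φ h ≫ x := rfl

lemma pmH_pmH (ψ : C →+* D) (φ : B →+* C) {b : R →+* B} {c : R →+* C} {d : R →+* D} (h : φ.comp b = c)
    (h' : ψ.comp c = d) (h'' : (ψ.comp φ).comp b = d) (x : pt b ⟶ N) :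
    pmH N ψ h' (pmH N φ h x) = pmH N (ψ.comp φ) h'' x := by
  rw [pmH_apply, pmH_apply, pmH_apply, ← Category.assoc, pm_comp]

lemma pmH_congr {φ φ' : B →+* C} (e : φ = φ') {b : R →+* B} {c : R →+* C} (h : φ.comp b = c)
    (h' : φ'.comp b = c) (x : pt b ⟶ N) : pmH N φ h x = pmH N φ' h' x := by subst e; rfl

lemma pmH_id {b : R →+* B} (h : (RingHom.id B).comp b = b) (x : pt b ⟶ N) :
    pmH N (RingHom.id B) h x = x := by
  rw [pmH_apply, pm_id, Category.id_comp]

/-- Compatibility with homomorphisms of group schemes. -/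
lemma pmH_comp {N' : Over (Spec (CommRingCat.of R))} [GrpObj N'] (f : N ⟶ N')
    (φ : B →+* C) {b : R →+* B} {c : R →+* C} (h : φ.comp b = c) (x : pt b ⟶ N) :
    pmH N' φ h (x ≫ f) = pmH N φ h x ≫ f := by
  rw [pmH_apply, pmH_apply, Category.assoc]

omit [GrpObj N] in
/-- Two points of a separated scheme in a reduced ring which agree in a larger ring agree. -/
theorem pm_cancel [IsSeparated N.hom] [IsReduced B] (φ : B →+* C) (hφ : Function.Injective φ) {b : R →+* B}
    {c : R →+* C} (h : φ.comp b = c) {x y : pt b ⟶ N} (hxy : pm φ h ≫ x = pm φ h ≫ y) : x = y := by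
  have hd : IsDominant (Spec.map (CommRingCat.ofHom φ)) := by
    constructor
    exact (PrimeSpectrum.denseRange_comap_iff_ker_le_nilRadical φ).mpr (by
      rw [(RingHom.injective_iff_ker_eq_bot φ).mp hφ]; exact bot_le)
  have hr : AlgebraicGeometry.IsReduced (pt b).left :=
    inferInstanceAs (AlgebraicGeometry.IsReduced (Spec (CommRingCat.of B)))
  ext1
  have h1 : (pm φ h).left ≫ x.left = (pm φ h).left ≫ y.left := congrArg (fun f => f.left) hxy
  exact ext_of_isDominant_of_isSeparated N.hom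
    ((Over.w x).trans (Over.w y).symm) (Spec.map (CommRingCat.ofHom φ)) h1

theorem pmH_injective [IsSeparated N.hom] [IsReduced B] (φ : B →+* C) (hφ : Function.Injective φ) {b : R →+* B}
    {c : R →+* C} (h : φ.comp b = c) : Function.Injective (pmH N φ h) :=
  fun _ _ hxy => pm_cancel N φ hφ h hxy

end basic

section bc

variable {R A : Type u} [CommRing R] [CommRing A] {B C : Type u} [CommRing B] [CommRing C]

/-- `Spec B` over `Spec A` seen over `Spec R`. -/
def bcIso (f : R →+* A) (b : A →+* B) :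
    pt (b.comp f) ≅ (Over.map (Spec.map (CommRingCat.ofHom f))).obj (pt b) :=
  Over.isoMk (Iso.refl _) (by
    change 𝟙 _ ≫ Spec.map _ ≫ Spec.map _ = Spec.map _
    rw [Category.id_comp, ← Spec.map_comp, ← CommRingCat.ofHom_comp])

@[simp] lemma bcIso_hom_left (f : R →+* A) (b : A →+* B) : (bcIso f b).hom.left = 𝟙 _ := rfl
@[simp] lemma bcIso_inv_left (f : R →+* A) (b : A →+* B) : (bcIso f b).inv.left = 𝟙 _ := rfl

variable (N : Over (Spec (CommRingCat.of R))) [GrpObj N]

/-- Points of the base change. -/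
def bcE (f : R →+* A) (b : A →+* B) :
    (pt b ⟶ Red.bc (Spec.map (CommRingCat.ofHom f)) N) ≃* (pt (b.comp f) ⟶ N) :=
  (Groth.Agent.Sga3B.BcPts.bcMulEquiv (Spec.map (CommRingCat.ofHom f)) (pt b) N).symm.trans
    { toFun := fun x => (bcIso f b).hom ≫ x
      invFun := fun x => (bcIso f b).inv ≫ x
      left_inv := fun x => by simp
      right_inv := fun x => by simp
      map_mul' := fun x y => MonObj.comp_mul _ x y }

lemma bcE_left (f : R →+* A) (b : A →+* B) (x : pt b ⟶ Red.bc (Spec.map (CommRingCat.ofHom f)) N) :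
    (bcE N f b x).left = x.left ≫ pullback.fst N.hom (Spec.map (CommRingCat.ofHom f)) := by
  change ((bcIso f b).hom ≫ (((Over.mapPullbackAdj _).homEquiv (pt b) N).symm x)).left = _
  rw [Adjunction.homEquiv_counit]
  simp

lemma bcE_pmH (f : R →+* A) {b : A →+* B} {c : A →+* C} (φ : B →+* C) (h : φ.comp b = c)
    (h' : φ.comp (b.comp f) = c.comp f) (x : pt b ⟶ Red.bc (Spec.map (CommRingCat.ofHom f)) N) :
    bcE N f c (pmH _ φ h x) = pmH N φ h' (bcE N f b x) := by
  ext1
  rw [bcE_left, pmH_apply, pmH_apply, Over.comp_left, Over.comp_left, bcE_left, Category.assoc]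
  rfl

lemma bcE_symm_pmH (f : R →+* A) {b : A →+* B} {c : A →+* C} (φ : B →+* C) (h : φ.comp b = c)
    (h' : φ.comp (b.comp f) = c.comp f) (x : pt (b.comp f) ⟶ N) :
    (bcE N f c).symm (pmH N φ h' x) = pmH _ φ h ((bcE N f b).symm x) := by
  rw [MulEquiv.symm_apply_eq, bcE_pmH N f φ h h', MulEquiv.apply_symm_apply]

end bc

section galois

variable {R : Type u} [CommRing R] (N : Over (Spec (CommRingCat.of R))) [GrpObj N]
variable {K Ω : Type u} [Field K] [Field Ω] [Algebra K Ω]

lemma galAct_eq {A : Over (Spec (CommRingCat.of K))} [GrpObj A] (σ : Ω ≃ₐ[K] Ω) (x : SGA7.Pts Ω A) :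
    SGA7.galAct σ x = pmH A (σ : Ω →+* Ω) (by ext; simp) x := rfl

omit [GrpObj N] in
lemma gal_comp (σ : Ω ≃ₐ[K] Ω) (f : R →+* K) :
    (σ : Ω →+* Ω).comp ((algebraMap K Ω).comp f) = (algebraMap K Ω).comp f := by
  ext; simp

/-- Galois descent of points. -/
theorem exists_of_galois_fixed [IsGalois K Ω] (f : R →+* K) (x : pt ((algebraMap K Ω).comp f) ⟶ N)
    (hx : ∀ σ : Ω ≃ₐ[K] Ω, pmH N (σ : Ω →+* Ω) (gal_comp σ f) x = x) :
    ∃ y : pt f ⟶ N, pmH N (algebraMap K Ω) rfl y = x := by
  obtain ⟨y, hy⟩ := Groth.Agent.Sga7.H729.Dict.exists_of_fixed (Ω := Ω)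
    (Red.bc (Spec.map (CommRingCat.ofHom f)) N) ((bcE N f (algebraMap K Ω)).symm x) (fun σ => by
      rw [galAct_eq, ← bcE_symm_pmH N f _ _ (gal_comp σ f), hx])
  let y' : Spec (CommRingCat.of K) ⟶ (Red.bc (Spec.map (CommRingCat.ofHom f)) N).left := y.left
  have hy' : y' ≫ (Red.bc (Spec.map (CommRingCat.ofHom f)) N).hom = 𝟙 _ := Over.w y
  refine ⟨Over.homMk (y' ≫ pullback.fst N.hom (Spec.map (CommRingCat.ofHom f))) ?_, ?_⟩
  · rw [Category.assoc, pullback.condition, ← Category.assoc]
    change (y' ≫ (Red.bc (Spec.map (CommRingCat.ofHom f)) N).hom) ≫ _ = _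
    rw [hy', Category.id_comp]
    rfl
  · have h1 : bcE N f (algebraMap K Ω) (toUnit (SGA7.pt Ω) ≫ y) = x := by
      rw [hy, MulEquiv.apply_symm_apply]
    rw [← h1]
    ext1
    rw [bcE_left, Over.comp_left, pmH_apply, Over.comp_left]
    have h2 : (toUnit (SGA7.pt (K := K) Ω)).left = Spec.map (CommRingCat.ofHom (algebraMap K Ω)) := rfl
    rw [h2]
    exact (Category.assoc _ _ _).symm

end galois

end K125.Pts
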