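import Groth.Agent.Neron.K125.Tors
import Groth.Agent.AbVar.K510.TateMod

/-!
# Tate modules of points with values in rings

`co x k` is the `k`-th component of `x` in the Tate module; `tH N l φ h` is the map of Tate modules induced by a ring
homomorphism.  For `V` strictly henselian local and `V → F` local, `T_l N(V) ≅ T_l N(F)`.
-/

set_option autoImplicit false
universe u

open CategoryTheory CategoryTheory.Limits AlgebraicGeometry MonObj
open MonoidalCategory CartesianMonoidalCategory
open AbDual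

noncomputable section

namespace K125.Tate

open K125.Pts K125.Tors

section general

variable {S : Scheme.{u}} {A : Over S} [GrpObj A] [IsCommMonObj A] {l : ℕ} {T : Over S}

/-- the components of an element of the Tate module -/
abbrev co (x : TateMod A l T) (k : ℕ) : T ⟶ A := ((x : ℕ → Additive (T ⟶ A)) k).toMul

lemma co_pow (x : TateMod A l T) (k : ℕ) : co x k ^ (l ^ k) = 1 := x.2.1 k

lemma co_succ (x : TateMod A l T) (k : ℕ) : co x (k + 1) ^ l = co x k := x.2.2 k

lemma co_add (x y : TateMod A l T) (k : ℕ) : co (x + y) k = co x k * co y k := rfl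

lemma co_sub (x y : TateMod A l T) (k : ℕ) : co (x - y) k = co x k * (co y k)⁻¹ := by
  have h : co (x - y) k = co x k / co y k := rfl
  rw [h, div_eq_mul_inv]

lemma co_neg (x : TateMod A l T) (k : ℕ) : co (-x) k = (co x k)⁻¹ := rfl

lemma co_zero (k : ℕ) : co (0 : TateMod A l T) k = 1 := rfl

lemma co_nsmul (n : ℕ) (x : TateMod A l T) (k : ℕ) : co (n • x) k = co x k ^ n := by
  have h : ((n • x : TateMod A l T) : ℕ → Additive (T ⟶ A)) k = n • (x : ℕ → Additive (T ⟶ A)) k := by
    rw [K510.TateMod.nsmul_val]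
  exact congrArg Additive.toMul h

lemma co_add_pow (x : TateMod A l T) (k j : ℕ) : co x (k + j) ^ (l ^ j) = co x k := by
  induction j with
  | zero => rw [pow_zero, pow_one]; rfl
  | succ j ih => rw [pow_succ', pow_mul, ← add_assoc, co_succ, ih]

lemma co_ext {x y : TateMod A l T} (h : ∀ k, co x k = co y k) : x = y := TateMod.ext h

lemma co_smul [Fact l.Prime] (a : ℤ_[l]) (x : TateMod A l T) (k : ℕ) : co (a • x) k = co x k ^ (a.appr k) := rfl

/-- constructor -/
def mkT (f : ℕ → (T ⟶ A)) (h1 : ∀ k, f k ^ (l ^ k) = 1) (h2 : ∀ k, f (k + 1) ^ l = f k) : TateMod A l T :=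
  ⟨fun k => Additive.ofMul (f k), h1, h2⟩

lemma co_mkT (f : ℕ → (T ⟶ A)) (h1 : ∀ k, f k ^ (l ^ k) = 1) (h2 : ∀ k, f (k + 1) ^ l = f k) (k : ℕ) :
    co (mkT f h1 h2) k = f k := rfl

end general

section functor

variable {R : Type u} [CommRing R] {B C D : Type u} [CommRing B] [CommRing C] [CommRing D]
  (N : Over (Spec (CommRingCat.of R))) [GrpObj N] [IsCommMonObj N] (l : ℕ) [Fact l.Prime]

/-- functoriality of the Tate module in the ring -/
def tH (φ : B →+* C) {b : R →+* B} {c : R →+* C} (h : φ.comp b = c) :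
    TateMod N l (pt b) →ₗ[ℤ_[l]] TateMod N l (pt c) :=
  K521.BcTate.tateHom l (pmH N φ h)

lemma co_tH (φ : B →+* C) {b : R →+* B} {c : R →+* C} (h : φ.comp b = c) (x : TateMod N l (pt b)) (k : ℕ) :
    co (tH N l φ h x) k = pmH N φ h (co x k) := rfl

lemma tH_tH (ψ : C →+* D) (φ : B →+* C) {b : R →+* B} {c : R →+* C} {d : R →+* D} (h : φ.comp b = c)
    (h' : ψ.comp c = d) (h'' : (ψ.comp φ).comp b = d) (x : TateMod N l (pt b)) :
    tH N l ψ h' (tH N l φ h x) = tH N l (ψ.comp φ) h'' x :=
  co_ext fun k => by rw [co_tH, co_tH, co_tH, pmH_pmH]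

lemma tH_congr {φ φ' : B →+* C} (e : φ = φ') {b : R →+* B} {c : R →+* C} (h : φ.comp b = c)
    (h' : φ'.comp b = c) (x : TateMod N l (pt b)) : tH N l φ h x = tH N l φ' h' x := by subst e; rfl

lemma tH_id {b : R →+* B} (h : (RingHom.id B).comp b = b) (x : TateMod N l (pt b)) :
    tH N l (RingHom.id B) h x = x :=
  co_ext fun k => by rw [co_tH, pmH_id]

theorem tH_injective [IsSeparated N.hom] [IsReduced B] (φ : B →+* C) (hφ : Function.Injective φ) {b : R →+* B}
    {c : R →+* C} (h : φ.comp b = c) : Function.Injective (tH N l φ h) := by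
  intro x y hxy
  refine co_ext fun k => pmH_injective N φ hφ h ?_
  rw [← co_tH N l, ← co_tH N l, hxy]

end functor

section hensel

variable {R V F : Type u} [CommRing R] [CommRing V] [IsLocalRing V] [Field F]
  (N : Over (Spec (CommRingCat.of R))) [GrpObj N] [IsCommMonObj N] [Smooth N.hom] (l : ℕ) [Fact l.Prime]

theorem pow_cast_ne_zero {l : ℕ} (hl : (l : F) ≠ 0) (k : ℕ) : ((l ^ k : ℕ) : F) ≠ 0 := by
  rw [Nat.cast_pow]; exact pow_ne_zero _ hl

/-- `T_l N(V) ≅ T_l N(F)`. -/
theorem tH_bijective (hV : EtCoh.IsStrictlyHenselianLocalRing V) {b : R →+* V} (φ : V →+* F) [IsLocalHom φ]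
    {c : R →+* F} (h : φ.comp b = c) (hl : (l : F) ≠ 0) : Function.Bijective (tH N l φ h) := by
  constructor
  · intro x y hxy
    refine co_ext fun k => ?_
    refine eq_of_map N φ h (pow_cast_ne_zero hl k) _ _ (co_pow x k) (co_pow y k) ?_
    rw [← co_tH N l, ← co_tH N l, hxy]
  · intro z
    choose w hw hw' using fun k => exists_lift N hV φ h (pow_cast_ne_zero hl k) (co z k) (co_pow z k)
    refine ⟨mkT w hw fun k => ?_, co_ext fun k => ?_⟩
    · refine eq_of_map N φ h (pow_cast_ne_zero hl k) _ _ ?_ (hw k) ?_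
      · rw [← pow_mul, ← pow_succ', hw]
      · rw [map_pow, hw', hw', co_succ]
    · rw [co_tH, co_mkT, hw']

end hensel

section bc

variable {R A : Type u} [CommRing R] [CommRing A] {B : Type u} [CommRing B]
  (N : Over (Spec (CommRingCat.of R))) [GrpObj N] [IsCommMonObj N] (l : ℕ) [Fact l.Prime]

/-- Tate modules of points of the base change. -/
def tBc (f : R →+* A) (b : A →+* B) : TateMod (Red.bc (Spec.map (CommRingCat.ofHom f)) N) l (pt b) ≃ₗ[ℤ_[l]]
    TateMod N l (pt (b.comp f)) := K521.BcTate.tateCongr l (bcE N f b)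

lemma co_tBc (f : R →+* A) (b : A →+* B) (x : TateMod (Red.bc (Spec.map (CommRingCat.ofHom f)) N) l (pt b))
    (k : ℕ) : co (tBc N l f b x) k = bcE N f b (co x k) := rfl

/-- Tate modules of sections of the base change. -/
def tSec (b : R →+* B) : TateMod (Red.bc (Spec.map (CommRingCat.ofHom b)) N) l (𝟙_ (Over (Spec (CommRingCat.of B))))
    ≃ₗ[ℤ_[l]] TateMod N l (pt b) := K521.BcTate.tateCongr l (secE N b)

end bc

end K125.Tate
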