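import Groth.Agent.Neron.K125.RkCount
import Groth.Agent.Neron.K125.Tate
import Groth.Agent.Sga7.H620.DimSmooth

/-!
# The rank of the Tate module of a semiabelian group over an algebraically closed field (RK0)

`finrank_add`: `G` smooth, quasi-compact, commutative, without closed `𝔾_a` over an algebraically closed field `K`
(not necessarily connected), `j : T → G` a maximal torus of rank `m`, `l ≠ char K`:
`rank T_l G(K) + m = 2 dim G`.  `finrank_add_le`: `≤` for every split subtorus.
-/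

set_option autoImplicit false
universe u
open CategoryTheory MonoidalCategory CartesianMonoidalCategory MonObj GrpObj AlgebraicGeometry Limits
open AbDual

namespace K125.Rk

open Groth.Agent Sga7.H109.Basic Sga7.H109.Struct K125.Tate

/-- The dimension of an open subgroup. -/
theorem dim_open {K : Type u} [Field K] [IsAlgClosed K] {G₀ G : Over (Spec (CommRingCat.of K))} [GrpObj G₀] [GrpObj G]
    [LocallyOfFiniteType G.hom] (i : G₀ ⟶ G) [IsMonHom i] [IsOpenImmersion i.left] :
    topologicalKrullDim G₀.left = topologicalKrullDim G.left := by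
  have hft : LocallyOfFiniteType G₀.hom := by rw [← Over.w i]; infer_instance
  have gG : GrpObj (Over.mk G.hom) := inferInstanceAs (GrpObj G)
  have gG₀ : GrpObj (Over.mk G₀.hom) := inferInstanceAs (GrpObj G₀)
  have h1 := Localalg.GrpDim.ringKrullDim_stalk G.hom (Sga7.H620.TorsCount.eP G) (Sga7.H620.TorsCount.isClosed_eP G)
  have h2 := Localalg.GrpDim.ringKrullDim_stalk G₀.hom (Sga7.H620.TorsCount.eP G₀)
    (Sga7.H620.TorsCount.isClosed_eP G₀)
  rw [← h1, ← h2, ← Sga7.H620.TorsCount.map_eP i]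
  exact (ringKrullDim_eq_of_ringEquiv (asIso (i.left.stalkMap (Sga7.H620.TorsCount.eP G₀))).commRingCatIsoToRingEquiv).symm

section tate

variable {S : Scheme.{u}} {A B : Over S} [GrpObj A] [IsCommMonObj A] [GrpObj B] [IsCommMonObj B]

/-- Tate modules and open subgroups of finite index. -/
theorem tateHom_bijective {T : Over S} (l : ℕ) [Fact l.Prime] (i : A ⟶ B) [IsMonHom i] [Mono i] {N : ℕ} (hN : 0 < N)
    (ψ : B ⟶ A) (h : ψ ≫ i = (𝟙 B) ^ N) :
    Function.Bijective (K521.BcTate.tateHom l (Sga7.H620.TorsCount.ptsMap (T := T) i)) := by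
  let F := Sga7.H620.TorsCount.ptsMap (T := T) i
  have hF : Function.Injective F := fun x y h => (cancel_mono i).1 h
  have hlp : l.Prime := Fact.out
  constructor
  · intro x y hxy
    refine co_ext fun k => hF ?_
    have := congrArg (fun z => co z k) hxy
    exact this
  · intro z
    obtain ⟨a, m, hm, rfl⟩ := Nat.exists_eq_pow_mul_and_not_dvd hN.ne' l hlp.ne_one
    have hz : ∀ k, ∃ w : T ⟶ A, F w = co z k := by
      intro k
      have h1 : co z k ^ m ∈ F.range := by
        refine ⟨co z (k + a) ≫ ψ, ?_⟩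
        change (co z (k + a) ≫ ψ) ≫ i = _
        rw [Category.assoc, h, MonObj.comp_pow, Category.comp_id, pow_mul, co_add_pow]
      have h2 : co z k ^ (l ^ k) ∈ F.range := by rw [co_pow]; exact one_mem _
      have hco : Nat.Coprime m (l ^ k) := ((hlp.coprime_iff_not_dvd.2 hm).symm).pow_right k
      have h3 : co z k ∈ F.range := by
        have h4 : (co z k) ^ ((Nat.gcd m (l ^ k) : ℕ) : ℤ) ∈ F.range := by
          rw [Nat.gcd_eq_gcd_ab, zpow_add, zpow_mul, zpow_mul, zpow_natCast, zpow_natCast]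
          exact mul_mem (zpow_mem h1 _) (zpow_mem h2 _)
        rwa [hco, Nat.cast_one, zpow_one] at h4
      exact h3
    choose w hw using hz
    refine ⟨mkT w (fun k => hF ?_) (fun k => hF ?_), co_ext fun k => hw k⟩
    · rw [map_pow, hw, co_pow, map_one]
    · rw [map_pow, hw, hw, co_succ]

end tate

variable {K : Type u} [Field K] [IsAlgClosed K]

theorem exists_struct' (G : Over (Spec (CommRingCat.of K))) [GrpObj G] [IsCommMonObj G] [Smooth G.hom]
    [QuasiCompact G.hom] (h : NoGa G) :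
    ∃ (r a : ℕ) (i : Red.DS (Spec (CommRingCat.of K)) (Fin r → ℤ) ⟶ G), IsMonHom i ∧ IsClosedImmersion i.left ∧
      topologicalKrullDim G.left = ((a + r : ℕ) : WithBot ℕ∞) ∧
      (∀ (l : ℕ) [Fact l.Prime], (l : K) ≠ 0 →
        Module.Finite ℤ_[l] (TateMod G l (𝟙_ (Over (Spec (CommRingCat.of K))))) ∧
        Module.finrank ℤ_[l] (TateMod G l (𝟙_ (Over (Spec (CommRingCat.of K))))) = 2 * a + r) ∧
      (∀ (T : Over (Spec (CommRingCat.of K))) [GrpObj T] (j : T ⟶ G) [IsMonHom j], Red.IsTorus T →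
        ∃ f : T ⟶ Red.DS (Spec (CommRingCat.of K)) (Fin r → ℤ), f ≫ i = j) := by
  obtain ⟨G₀, _, _, i₀, hi₀, N, ψ, hN, ho, hc, hconn, hqc, hψ⟩ := K809.NeutralN.exists_data G
  have hm0 : Mono i₀.left := inferInstance
  have hm : Mono i₀ := Over.mono_of_mono_left i₀
  have hsm : Smooth G₀.hom := by rw [← Over.w i₀]; infer_instance
  obtain ⟨r, a, i, hi, hic, hd, hcard, hmax⟩ := exists_struct G₀ (h.of_closedImmersion i₀)
  refine ⟨r, a, i ≫ i₀, inferInstance, ?_, ?_, fun l _ hl => ?_, fun T _ j _ hT => ?_⟩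
  · rw [Over.comp_left]; infer_instance
  · rw [← dim_open i₀, hd]
  · have hdiv : ∀ x : 𝟙_ (Over (Spec (CommRingCat.of K))) ⟶ G₀, ∃ y : 𝟙_ (Over (Spec (CommRingCat.of K))) ⟶ G₀,
        y ^ l = x := by
      intro x
      have hs := K809.NeutralN.surjective_pow G₀ l hl
      obtain ⟨y, hy⟩ := Sga7.H620.Rosenlicht.exists_lift_pt ((𝟙 G₀) ^ l) x
      rw [MonObj.comp_pow, Category.comp_id] at hy
      exact ⟨y, hy⟩
    have hc' : Nat.card (torsPts G₀ l (𝟙_ (Over (Spec (CommRingCat.of K))))) = l ^ (2 * a + r) := hcard l hl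
    have hfr := K510.TateMod.finrank_eq hdiv (2 * a + r) hc'
    have hfin : Finite (torsPts G₀ l (𝟙_ (Over (Spec (CommRingCat.of K))))) := Nat.finite_of_card_ne_zero (by
      rw [hc']; exact pow_ne_zero _ (Fact.out : l.Prime).ne_zero)
    have hfi := K510.TateMod.finite_of_finite hfin
    let e := LinearEquiv.ofBijective _ (tateHom_bijective (T := 𝟙_ (Over (Spec (CommRingCat.of K)))) l i₀ hN ψ hψ)
    exact ⟨Module.Finite.equiv e, by rw [← e.finrank_eq, hfr]⟩
  · have hTc : ConnectedSpace T.left := Sga3.H784.Neutral.connectedSpace_of_isTorus hT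
    have hcl : IsClopen (Set.range i₀.left) := ⟨i₀.left.isClosedEmbedding.isClosed_range,
      i₀.left.isOpenEmbedding.isOpen_range⟩
    have hsub : Set.range j.left ⊆ Set.range i₀.left := by
      have h1 : _root_.IsPreconnected (Set.range j.left) := isPreconnected_range j.left.continuous
      have h2 : (Set.range j.left ∩ Set.range i₀.left).Nonempty :=
        ⟨Sga7.H620.TorsCount.eP G, ⟨_, Sga7.H620.TorsCount.map_eP j⟩, ⟨_, Sga7.H620.TorsCount.map_eP i₀⟩⟩
      exact h1.subset_isClopen hcl h2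
    let j' : T ⟶ G₀ := Over.homMk (IsOpenImmersion.lift i₀.left j.left hsub) (by
      rw [← Over.w i₀, IsOpenImmersion.lift_fac_assoc, Over.w])
    have hj' : j' ≫ i₀ = j := by
      ext1
      exact IsOpenImmersion.lift_fac _ _ _
    have hmj : IsMonHom (j' ≫ i₀) := by rw [hj']; infer_instance
    have hmj' : IsMonHom j' := Sga3C.SubGrp.isMonHom_of_comp_mono j' i₀
    obtain ⟨f, hf⟩ := hmax T j' hT
    exact ⟨f, by rw [← Category.assoc, hf, hj']⟩

/-- **(RK0), inequality.** -/
theorem finrank_add_le (G : Over (Spec (CommRingCat.of K))) [GrpObj G] [IsCommMonObj G] [Smooth G.hom]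
    [QuasiCompact G.hom] (h : NoGa G) {T : Over (Spec (CommRingCat.of K))} [GrpObj T] (j : T ⟶ G) [IsMonHom j] [Mono j]
    {m : ℕ} (hT : Red.IsSplitTorusWith (Fin m → ℤ) T) (l : ℕ) [Fact l.Prime] (hl : (l : K) ≠ 0) {d : ℕ}
    (hd : topologicalKrullDim G.left = d) :
    Module.finrank ℤ_[l] (TateMod G l (𝟙_ (Over (Spec (CommRingCat.of K))))) + m ≤ 2 * d := by
  obtain ⟨r, a, i, hi, hic, hdG, hfr, hmax⟩ := exists_struct' G h
  have him : Mono i := Over.mono_of_mono_left i
  have hTt : Red.IsTorus T := Sga3B.RG.BrTorus.isTorus_of_isSplitTorusWith hT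
  have hDt : Red.IsTorus (Red.DS (Spec (CommRingCat.of K)) (Fin r → ℤ)) := K452.TorusRig.isTorus_DS _ r
  obtain ⟨f, hf⟩ := hmax T j hTt
  have hmf : Mono (f ≫ i) := by rw [hf]; infer_instance
  have hmf' : Mono f := mono_of_mono f i
  have hmh : IsMonHom (f ≫ i) := by rw [hf]; infer_instance
  have hmh' : IsMonHom f := Sga3C.SubGrp.isMonHom_of_comp_mono f i
  have h1 := Sga3.H795.MaxTorDim.dim_le_of_mono hTt hDt f
  rw [Sga3.H816.TorusDim.topologicalKrullDim_DS, Sga3.H816.TorusDim.topologicalKrullDim_of_split hT] at h1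
  have h2 : m ≤ r := by exact_mod_cast h1
  have h3 : d = a + r := by rw [hd] at hdG; exact_mod_cast hdG
  rw [(hfr l hl).2]
  omega

/-- **(RK0).** -/
theorem finrank_add (G : Over (Spec (CommRingCat.of K))) [GrpObj G] [IsCommMonObj G] [Smooth G.hom]
    [QuasiCompact G.hom] (h : NoGa G) {T : Over (Spec (CommRingCat.of K))} [GrpObj T] (j : T ⟶ G)
    (hj : Red.IsMaximalTorus j)
    {m : ℕ} (hT : Red.IsSplitTorusWith (Fin m → ℤ) T) (l : ℕ) [Fact l.Prime] (hl : (l : K) ≠ 0) {d : ℕ}
    (hd : topologicalKrullDim G.left = d) :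
    Module.finrank ℤ_[l] (TateMod G l (𝟙_ (Over (Spec (CommRingCat.of K))))) + m = 2 * d := by
  obtain ⟨r, a, i, hi, hic, hdG, hfr, hmax⟩ := exists_struct' G h
  have him : Mono i := Over.mono_of_mono_left i
  have hDt : Red.IsTorus (Red.DS (Spec (CommRingCat.of K)) (Fin r → ℤ)) := K452.TorusRig.isTorus_DS _ r
  have hja := (Sga3B.RG.BrMax.isMaximalTorus_iff_abs j).1 hj
  have hj1 := hj.1
  obtain ⟨f, hf⟩ := hmax T j hja.2.2.1
  have hiso := hja.2.2.2 _ i f hDt hf
  have h1 := Sga3.H795.MaxTorDim.topologicalKrullDim_of_iso (asIso f)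
  rw [Sga3.H816.TorusDim.topologicalKrullDim_DS, Sga3.H816.TorusDim.topologicalKrullDim_of_split hT] at h1
  have h2 : m = r := by exact_mod_cast h1
  have h3 : d = a + r := by rw [hd] at hdG; exact_mod_cast hdG
  rw [(hfr l hl).2]
  omega

end K125.Rk
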