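import Groth.Agent.Neron.K489.NcdD
import Groth.Agent.Neron.K486.LevelMain
import Groth.Agent.Neron.K545.PadicRank

/-!
# `l`-toric additive implies weakly toric additive
-/

set_option autoImplicit false
set_option linter.unusedSectionVars false
universe u
open CategoryTheory CategoryTheory.Limits AlgebraicGeometry MonObj
open MonoidalCategory CartesianMonoidalCategory
open AbDual
open K125.Pts K125.Tors K125.Tate K125.Gal K489.NcdCmp K489.NcdSat K489.NcdDom

noncomputable section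

namespace K125.Row66

section fixed

variable {R K Ω : Type u} [CommRing R] [IsDomain R] [IsLocalRing R] [Field K] [Algebra R K] [Field Ω] [Algebra K Ω]
  [IsGalois K Ω] [IsSepClosed Ω]
  (N : Over (Spec (CommRingCat.of R))) [GrpObj N] [IsCommMonObj N] [Smooth N.hom] [IsSeparated N.hom]
  [QuasiCompact N.hom] (l : ℕ) [hl : Fact l.Prime]

/-- the vectors fixed by the whole group -/
def fixG : Submodule ℤ_[l] (TT R K Ω N l) where
  carrier := {z | ∀ σ : Ω ≃ₐ[K] Ω, gal (algebraMap R K) N l σ z = z}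
  add_mem' {a b} ha hb τ := by rw [map_add, ha, hb]
  zero_mem' τ := map_zero _
  smul_mem' c x hx τ := by rw [map_smul, hx]

lemma mem_fixG (z : TT R K Ω N l) :
    z ∈ fixG N l ↔ ∀ σ : Ω ≃ₐ[K] Ω, gal (algebraMap R K) N l σ z = z := Iff.rfl

lemma fixG_le (D : Dom R K Ω) : fixG N l ≤ fixT N l D := fun _ hz τ => hz (D.res τ)

lemma strict_tH_bijective (hR : EtCoh.IsStrictlyHenselianLocalRing R) {V : Type u} [CommRing V] [IsLocalRing V]
    (hV : EtCoh.IsStrictlyHenselianLocalRing V) (φ : R →+* V) [IsLocalHom φ] (hlu : IsUnit (l : V)) :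
    Function.Bijective (tH N l φ (b := RingHom.id R) (c := φ) (RingHom.comp_id φ)) := by
  let q := IsLocalRing.residue V
  have hlκ : (l : IsLocalRing.ResidueField V) ≠ 0 := by
    have := hlu.map q
    rw [map_natCast] at this
    exact this.ne_zero
  have hloc : IsLocalHom (q.comp φ) := RingHom.isLocalHom_comp _ _
  have h1 := tH_bijective N l hV (b := φ) q rfl hlκ
  have h2 := tH_bijective N l hR (b := RingHom.id R) (q.comp φ) (RingHom.comp_id _) hlκ
  have h3 : ∀ x, tH N l q (b := φ) rfl (tH N l φ (b := RingHom.id R) (RingHom.comp_id φ) x) =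
      tH N l (q.comp φ) (RingHom.comp_id _) x := fun x => by
    rw [tH_tH N l q φ (RingHom.comp_id φ) rfl (RingHom.comp_id _)]
  constructor
  · intro x y hxy
    apply h2.1
    rw [← h3, ← h3, hxy]
  · intro z
    obtain ⟨x, hx⟩ := h2.2 (tH N l q (b := φ) rfl z)
    exact ⟨x, h1.1 (by rw [h3, hx])⟩

/-- The vectors fixed by the group of a datum dominating `R` are fixed by everything. -/
theorem fixT_eq_fixG (hR : EtCoh.IsStrictlyHenselianLocalRing R) (hsab : SGA7.FibresUnipotentRankZero N)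
    (hp : IsProper (pullback.snd N.hom (Spec.map (CommRingCat.ofHom (algebraMap R K)))))
    (hgi : GeometricallyIntegral (pullback.snd N.hom (Spec.map (CommRingCat.ofHom (algebraMap R K)))))
    (D : Dom R K Ω) [IsLocalHom (algebraMap R D.V)] (hu : IsUnit (l : D.V)) : fixT N l D = fixG N l := by
  refine le_antisymm (fun z hz => ?_) (fixG_le N l D)
  have h1 : upT N l D hu z ∈ (fixT N l D).map (upT N l D hu).toLinearMap := ⟨z, hz, rfl⟩
  rw [← range_ofVT N l D hsab hp hgi hu] at h1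
  obtain ⟨w, hw⟩ := h1
  obtain ⟨w₀, hw₀⟩ := (strict_tH_bijective N l hR D.isStrict (algebraMap R D.V) hu).2 w
  let z₀ : TT R K Ω N l := tH N l (str (algebraMap R K) Ω) (RingHom.comp_id _) w₀
  have hz₀ : z₀ = z := by
    apply (upT N l D hu).injective
    rw [← hw, ← hw₀]
    change tH N l (algebraMap Ω D.Φ) (strΦ_comm D) z₀ = tH N l ((algebraMap D.F D.Φ).comp (algebraMap D.V D.F)) _ _
    rw [tH_tH N l (algebraMap Ω D.Φ) (str (algebraMap R K) Ω) (RingHom.comp_id _) (strΦ_comm D)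
        (by rw [RingHom.comp_id, strΦ_comm D]),
      tH_tH N l ((algebraMap D.F D.Φ).comp (algebraMap D.V D.F)) (algebraMap R D.V) (RingHom.comp_id _) _
        (by rw [RingHom.comp_id, RingHom.comp_assoc])]
    exact tH_congr N l (by rw [strΦ_comm D, RingHom.comp_assoc]) _ _ _
  rw [← hz₀, mem_fixG]
  intro σ
  change tH N l (σ : Ω →+* Ω) (gal_comp σ (algebraMap R K)) (tH N l (str (algebraMap R K) Ω) (RingHom.comp_id _) w₀) = _
  rw [tH_tH N l (σ : Ω →+* Ω) (str (algebraMap R K) Ω) (RingHom.comp_id _) (gal_comp σ (algebraMap R K))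
    (by rw [RingHom.comp_id, gal_comp])]
  exact tH_congr N l (gal_comp σ (algebraMap R K)) _ _ _

end fixed


section star

variable {R K Ω : Type u} [CommRing R] [IsDomain R] [IsLocalRing R] [Field K] [Algebra R K] [Field Ω] [Algebra K Ω]
  [Algebra R Ω] [IsScalarTower R K Ω] [IsGalois K Ω] [IsSepClosed Ω]
  (N : Over (Spec (CommRingCat.of R))) [GrpObj N] [IsCommMonObj N] [Smooth N.hom] [IsSeparated N.hom]
  [QuasiCompact N.hom] (l : ℕ) [hl : Fact l.Prime] (hlu : IsUnit (l : R)) {n : ℕ} (r : Fin n → R)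
  (D : Fin n → Dom R K Ω) (hD' : ∀ i x, ¬ r i ∣ x → IsUnit (algebraMap R (D i).V x))

include hlu hD' in
/-- Vectors fixed by the automorphisms fixing all `l`-power roots of `r i` are fixed by the groups of the other
branches. -/
theorem mem_fixT_of_star (hrne : ∀ i j, i ≠ j → ¬ r i ∣ r j) (i : Fin n) (w : TT R K Ω N l)
    (hw : ∀ σ : Ω ≃ₐ[K] Ω, (∀ (k : ℕ) (y : Ω), y ^ (l ^ k) = algebraMap K Ω (algebraMap R K (r i)) → σ y = y) →
      gal (algebraMap R K) N l σ w = w) (j : Fin n) (hij : j ≠ i) : w ∈ fixT N l (D j) := by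
  intro τ
  refine hw _ fun k y hy => ?_
  have hN : IsUnit ((l ^ k : ℕ) : R) := by
    rw [Nat.cast_pow]
    exact hlu.pow k
  exact (D j).res_eq_of_isUnit (hD' j (r i) (hrne j i hij)) (l ^ k) hN
    (by rw [hy, ← IsScalarTower.algebraMap_apply]) τ

end star

/-- `S16166`, with level two as a hypothesis. -/
theorem main
    (R : Type u) [CommRing R] [IsDomain R] [IsRegularLocalRing R] [HenselianLocalRing R]
    [IsSepClosed (IsLocalRing.ResidueField R)]
    {n : ℕ} (r : Fin n → R) (hr : ∀ i, r i ∈ IsLocalRing.maximalIdeal R)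
    (hli : LinearIndependent (IsLocalRing.ResidueField R)
      (fun i => (IsLocalRing.maximalIdeal R).toCotangent ⟨r i, hr i⟩))
    (𝒜 : Over (Spec (CommRingCat.of R))) [GrpObj 𝒜] [IsCommMonObj 𝒜]
    [Smooth 𝒜.hom] [IsSeparated 𝒜.hom] [QuasiCompact 𝒜.hom]
    (hsab : SGA7.FibresUnipotentRankZero 𝒜)
    (hconn : ∀ (L : Type u) [Field L] (φ : R →+* L),
      ConnectedSpace ↑(pullback 𝒜.hom (Spec.map (CommRingCat.ofHom φ))))
    (hprop : IsProper (pullback.snd 𝒜.hom
      (Spec.map (CommRingCat.ofHom (algebraMap R (Localization.Away (∏ i, r i)))))))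
    (ζ : Fin n → ↥(Spec (CommRingCat.of R))) (hζ : ∀ i, (ζ i).asIdeal = Ideal.span {r i})
    (rk : Fin n → ℕ)
    (T : ∀ i, Over (Spec (CommRingCat.of (AlgebraicClosure ((Spec (CommRingCat.of R)).residueField (ζ i))))))
    [∀ i, GrpObj (T i)] (j : ∀ i, T i ⟶ Red.geomFibre (ζ i) 𝒜)
    (hT : ∀ i, Red.IsMaximalTorus (j i)) (hTsplit : ∀ i, Red.IsSplitTorusWith (Fin (rk i) → ℤ) (T i))
    (s : ↥(Spec (CommRingCat.of R))) (hs : s.asIdeal = IsLocalRing.maximalIdeal R)
    (m : ℕ) (Ts : Over (Spec (CommRingCat.of (AlgebraicClosure ((Spec (CommRingCat.of R)).residueField s)))))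
    [GrpObj Ts] (js : Ts ⟶ Red.geomFibre s 𝒜)
    (hTs : Red.IsMaximalTorus js) (hTssplit : Red.IsSplitTorusWith (Fin m → ℤ) Ts)
    (K Ω : Type u) [Field K] [Algebra R K] [IsFractionRing R K] [Field Ω] [Algebra K Ω] [IsSepClosure K Ω]
    (A : Over (Spec (CommRingCat.of K))) [GrpObj A] [IsCommMonObj A]
    (e : Red.bc (Spec.map (CommRingCat.ofHom (algebraMap R K))) 𝒜 ≅ A) (he : IsMonHom e.hom)
    (l : ℕ) (hl : l.Prime) (hlp : (l : IsLocalRing.ResidueField R) ≠ 0)
    (ρ : (Ω ≃ₐ[K] Ω) → AbDual.TateMod A l (SGA7.pt Ω) → AbDual.TateMod A l (SGA7.pt Ω))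
    (hρ : ∀ (τ : Ω ≃ₐ[K] Ω) (z : AbDual.TateMod A l (SGA7.pt Ω)) (k : ℕ),
      (AbDual.TateMod.component A l (SGA7.pt Ω) k (ρ τ z)).toMul =
        SGA7.galAct τ (AbDual.TateMod.component A l (SGA7.pt Ω) k z).toMul)
    (hstar : (n = 0 ∨ ∀ z : AbDual.TateMod A l (SGA7.pt Ω), ∃ w : Fin n → AbDual.TateMod A l (SGA7.pt Ω),
        (∀ (i : Fin n) (σ : Ω ≃ₐ[K] Ω),
          (∀ (k : ℕ) (y : Ω), y ^ (l ^ k) = algebraMap K Ω (algebraMap R K (r i)) → σ y = y) →
            ρ σ (w i) = w i) ∧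
        ∑ i, w i = z)) :
    m = ∑ i, rk i := by
  have hF : Fact l.Prime := ⟨hl⟩
  have hR : EtCoh.IsStrictlyHenselianLocalRing R := ⟨inferInstance, inferInstance⟩
  have hlu : IsUnit (l : R) := by
    have h1 : ¬ (l : R) ∈ IsLocalRing.maximalIdeal R := fun h => by
      apply hlp
      rw [← map_natCast (IsLocalRing.residue R)]
      exact (IsLocalRing.residue_eq_zero_iff _).mpr h
    exact not_not.mp h1
  rcases Nat.eq_zero_or_pos n with h0 | hn
  · subst h0
    -- the group is proper over `R`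
    obtain ⟨d, hd⟩ := K125.Rk.exists_dim_at 𝒜 s
    let κ := IsLocalRing.ResidueField R
    let Λ := AlgebraicClosure κ
    let φΛ : R →+* Λ := (algebraMap κ Λ).comp (IsLocalRing.residue R)
    have hloc' : IsLocalHom φΛ := RingHom.isLocalHom_comp _ _
    have hlΛ : (l : Λ) ≠ 0 := by
      have := hlu.map φΛ
      rw [map_natCast] at this
      exact this.ne_zero
    have hs' : (Spec.map (CommRingCat.ofHom φΛ)) (IsLocalRing.closedPoint Λ) = s := by
      have := K489.NcdD.closedPoint_eq (RingHom.id R) φΛ s (fun x => by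
        rw [hs, IsLocalRing.mem_maximalIdeal, mem_nonunits_iff, RingHom.id_apply])
      rwa [RingHom.comp_id] at this
    have h1 := K489.NcdMain.isProper_of_isUnit 𝒜 (∏ i, r i) φΛ (by simp) hprop
    have h2 := (K125.Rk.rank_proper s φΛ hs' (hsab s) h1 hlΛ (d := d) (fun E _ t ht => hd E t (specializes_of_eq ht))).2
    have h3 := (K125.Rk.rank_fib s φΛ hs' (hsab s) hlΛ
      (hd _ (Red.geomPt s) (specializes_of_eq (Groth.Agent.Sga3B.AdAff.geomPt_apply s _))) js hTssplit).2 hTs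
    rw [h2] at h3
    rw [Finset.univ_eq_empty, Finset.sum_empty]
    omega
  have hufd : UniqueFactorizationMonoid R := (Groth.Agent.S2821.result R).2
  have hrp : ∀ i, Prime (r i) := K489.NcdReg.prime_of_li r hr hli
  have hrne : ∀ i j, i ≠ j → ¬ r i ∣ r j := fun i j hij =>
    K489.NcdReg.not_dvd_of_li r hr hli (i := i) (j := j) (Ne.symm hij)
  have hRK : Function.Injective (algebraMap R K) := IsFractionRing.injective R K
  have ha : ∏ i, r i ≠ 0 := Finset.prod_ne_zero_iff.2 fun i _ => (hrp i).ne_zero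
  have hp := K489.NcdReg.isProper_gen (K := K) hRK ha 𝒜 hprop
  have hgi := K489.NcdReg.geometricallyIntegral_gen (K := K) hRK ha 𝒜 (fun L _ φ _ => hconn L φ)
  have hsc : IsSepClosed Ω := IsSepClosure.sep_closed K
  have hgal : IsGalois K Ω := IsSepClosure.isGalois
  let _ : Algebra R Ω := ((algebraMap K Ω).comp (algebraMap R K)).toAlgebra
  have htow : IsScalarTower R K Ω := IsScalarTower.of_algebraMap_eq fun _ => rfl
  choose D hD hD' using fun i => Dom.exists_of_prime R K Ω (hrp i)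
  have hfield : ¬ IsField R := fun h => by
    have h1 := hr ⟨0, hn⟩
    rw [IsLocalRing.isField_iff_maximalIdeal_eq.1 h] at h1
    exact (hrp ⟨0, hn⟩).ne_zero h1
  obtain ⟨V, _, _, _, _, _, φ, hφ1, hφ2⟩ := K486.DomDvr.exists_strict_dvr R hfield
  obtain ⟨Dv, ev, hev⟩ := Dom.exists_of_hom R K Ω V φ hφ2
  have hloc : IsLocalHom (algebraMap R Dv.V) := ⟨fun x hx => by
    rw [← hev] at hx
    have h1 : IsUnit (φ x) := (MulEquiv.isUnit_map ev).1 hx
    exact isUnit_of_map_unit φ x h1⟩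
  have hpg : IsProper ((SGA7.genFib R K).obj 𝒜).hom := hp
  have hgig : GeometricallyIntegral ((SGA7.genFib R K).obj 𝒜).hom := hgi
  have h2 : L2 R K Ω 𝒜 l := L2_of_dev 𝒜 l (fun ν σ τ x hx =>
    K486.LevelMain.levelTwo R K Ω 𝒜 hsab l hl hlp ν σ τ x hx)
  have hlΩ : (l : Ω) ≠ 0 := by
    have := hlu.map (algebraMap R Ω)
    rw [map_natCast] at this
    exact this.ne_zero
  have hluV : ∀ E : Dom R K Ω, IsUnit (l : E.V) := fun E => by
    have := hlu.map (algebraMap R E.V)
    rwa [map_natCast] at this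
  have hfin : Module.Finite ℤ_[l] (TT R K Ω 𝒜 l) := K125.Rk.finite_generic hsab hp hlΩ
  -- ranks
  have hrank : ∀ (E : Dom R K Ω) (t : ↥(Spec (CommRingCat.of R))) (_ : ∀ x : R, x ∈ t.asIdeal ↔
      ¬ IsUnit (algebraMap R E.V x))
      (T' : Over (Spec (CommRingCat.of (AlgebraicClosure ((Spec (CommRingCat.of R)).residueField t)))))
      [GrpObj T'] (j' : T' ⟶ Red.geomFibre t 𝒜) (m' : ℕ) (_ : Red.IsMaximalTorus j')
      (_ : Red.IsSplitTorusWith (Fin m' → ℤ) T'),
      Module.finrank ℤ_[l] (TT R K Ω 𝒜 l ⧸ fixT 𝒜 l E) = m' := by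
    intro E t ht T' _ j' m' hj' hm'
    let κ := IsLocalRing.ResidueField E.V
    let Λ := AlgebraicClosure κ
    let φΛ : E.V →+* Λ := (algebraMap κ Λ).comp (IsLocalRing.residue E.V)
    have hloc' : IsLocalHom φΛ := RingHom.isLocalHom_comp _ _
    have hlΛ : (l : Λ) ≠ 0 := by
      have := (hluV E).map φΛ
      rw [map_natCast] at this
      exact this.ne_zero
    have h3 := (K125.Rk.main hsab hp t (φΛ.comp (algebraMap R E.V)) (K489.NcdD.closedPoint_eq _ φΛ t ht)
      hlΛ hlΩ j' hm').2 hj'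
    rw [← finrank_V 𝒜 l E (hluV E) Λ φΛ, ← finrank_fixT 𝒜 l E hsab hp hgi (hluV E)] at h3
    have h4 := K545.PadicRank.quot_add (fixT 𝒜 l E)
    have h5 : Module.finrank ℤ_[l] (fixT 𝒜 l E) + m' = Module.finrank ℤ_[l] (TT R K Ω 𝒜 l) := h3
    omega
  have hrk : ∀ i, Module.finrank ℤ_[l] (TT R K Ω 𝒜 l ⧸ fixT 𝒜 l (D i)) = rk i := fun i =>
    hrank (D i) (ζ i) (fun x => by
      rw [hζ, Ideal.mem_span_singleton]
      constructor
      · rintro ⟨y, rfl⟩ h
        rw [map_mul] at h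
        exact (hD i).not_isUnit (isUnit_of_mul_isUnit_left h)
      · intro h
        by_contra hx
        exact h (hD' i x hx)) (T i) (j i) (rk i) (hT i) (hTsplit i)
  have hm : Module.finrank ℤ_[l] (TT R K Ω 𝒜 l ⧸ fixG 𝒜 l) = m := by
    rw [← fixT_eq_fixG 𝒜 l hR hsab hp hgi Dv (hluV Dv)]
    refine hrank Dv s (fun x => ?_) Ts js m hTs hTssplit
    rw [hs, IsLocalRing.mem_maximalIdeal, mem_nonunits_iff]
    exact not_congr ⟨fun h => h.map _, fun h => isUnit_of_map_unit (algebraMap R Dv.V) x h⟩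
  -- the upper bound
  have hle : m ≤ ∑ i, rk i := by
    rw [← hm, ← Finset.sum_congr rfl (fun i _ => hrk i)]
    refine K545.PadicRank.finrank_quot_le_sum Finset.univ (fun i => fixT 𝒜 l (D i)) _ fun x hx σ => ?_
    refine co_ext fun k => ?_
    rw [co_gal']
    refine K489.NcdMain.act_eq_of_roots r hrp 𝒜 hprop l hlu h2 D hD hD' ∅ (co x k) (co_pow x k)
      (fun i _ => (mem_fixT' 𝒜 l (D i) x).1 (hx i (Finset.mem_univ i)) k) σ (fun i hi => absurd hi (Set.notMem_empty i))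
  -- the lower bound
  let E₁ : TateMod A l (SGA7.pt Ω) ≃+ TateMod 𝒜 l (pt (str (algebraMap R K) Ω)) :=
    (tA (algebraMap R K) 𝒜 l e he).toAddEquiv
  have hE₁ : ∀ (σ : Ω ≃ₐ[K] Ω) (w : TateMod A l (SGA7.pt Ω)),
      E₁ (ρ σ w) = gal (algebraMap R K) 𝒜 l σ (E₁ w) := fun σ w =>
    tA_rho (algebraMap R K) 𝒜 l e he ρ hρ σ w
  rw [K125.KumRow.star_iff E₁ (fun i w => ∀ σ : Ω ≃ₐ[K] Ω,
      (∀ (k : ℕ) (y : Ω), y ^ (l ^ k) = algebraMap K Ω (algebraMap R K (r i)) → σ y = y) → ρ σ w = w)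
    (fun i w => ∀ σ : Ω ≃ₐ[K] Ω,
      (∀ (k : ℕ) (y : Ω), y ^ (l ^ k) = algebraMap K Ω (algebraMap R K (r i)) → σ y = y) →
        gal (algebraMap R K) 𝒜 l σ w = w)
    (fun i w => forall_congr' fun σ => imp_congr_right fun _ => by
      rw [← hE₁]; exact E₁.injective.eq_iff.symm)] at hstar
  have hge : ∑ i, rk i ≤ m := by
    rw [← hm, ← Finset.sum_congr rfl (fun i _ => hrk i)]
    refine K545.PadicRank.sum_le_finrank_quot Finset.univ (fun i => fixT 𝒜 l (D i)) (fun a s' has => ?_) _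
      (fun x hx i _ => fixG_le 𝒜 l (D i) hx)
    rw [eq_top_iff]
    intro z _
    obtain ⟨w, hw, rfl⟩ := hstar.resolve_left hn.ne' z
    rw [← Finset.add_sum_erase Finset.univ w (Finset.mem_univ a), add_comm]
    refine Submodule.add_mem_sup (Submodule.sum_mem _ fun i hi => ?_) ?_
    · exact mem_fixT_of_star 𝒜 l hlu r D hD' hrne i (w i) (hw i) a (Finset.ne_of_mem_erase hi).symm
    · rw [Submodule.mem_finsetInf]
      intro i hi
      exact mem_fixT_of_star 𝒜 l hlu r D hD' hrne a (w a) (hw a) i (fun h => has (h ▸ hi))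
  exact le_antisymm hle hge

end K125.Row66
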